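import Groth.Agent.Lib.Helper55.FamFlat.RL
import Groth.Agent.Lib.Helper76.AdicFamLC
import Groth.Agent.Lib.Helper92.AdicFamFI

set_option autoImplicit false
set_option linter.style.haveILetI false
universe u
open TensorProduct
open scoped Pointwise

namespace Groth.Agent.Lib.Helper55.FamFlat

/-- (BC) flatness of quotient base change descends along `𝔞 ≤ 𝔟` -/
theorem flat_quotient_tensor_of_le {A : Type u} [CommRing A] {Q : Type u} [AddCommGroup Q] [Module A Q]
    (𝔞 𝔟 : Ideal A) (h : 𝔞 ≤ 𝔟) (hflat : Module.Flat (A ⧸ 𝔞) ((A ⧸ 𝔞) ⊗[A] Q)) :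
    Module.Flat (A ⧸ 𝔟) ((A ⧸ 𝔟) ⊗[A] Q) := by
  letI : Algebra (A ⧸ 𝔞) (A ⧸ 𝔟) := (Ideal.Quotient.factor h).toAlgebra
  haveI : IsScalarTower A (A ⧸ 𝔞) (A ⧸ 𝔟) := IsScalarTower.of_algebraMap_eq fun x => by
    change _ = Ideal.Quotient.factor h (Ideal.Quotient.mk 𝔞 x)
    rw [Ideal.Quotient.factor_mk]
    rfl
  have h1 : Module.Flat (A ⧸ 𝔟) ((A ⧸ 𝔟) ⊗[A ⧸ 𝔞] ((A ⧸ 𝔞) ⊗[A] Q)) := inferInstance
  let e : (A ⧸ 𝔟) ⊗[A ⧸ 𝔞] ((A ⧸ 𝔞) ⊗[A] Q) ≃ₗ[A ⧸ 𝔟] (A ⧸ 𝔟) ⊗[A] Q :=
    TensorProduct.AlgebraTensorModule.cancelBaseChange A (A ⧸ 𝔞) (A ⧸ 𝔟) (A ⧸ 𝔟) Q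
  exact Module.Flat.of_linearEquiv e.symm

theorem algebraMap_smul_one_tmul {A : Type u} [CommRing A] {K : Type u} [CommRing K] [Algebra A K]
    {Q : Type u} [AddCommGroup Q] [Module A Q] (a : A) (q : Q) :
    (algebraMap A K a) • ((1 : K) ⊗ₜ[A] q) = (1 : K) ⊗ₜ[A] (a • q) := by
  rw [algebraMap_smul, TensorProduct.tmul_smul]

/-- (RF) relative freeness -/
theorem flat_quotient_tensor_of_basis_of_indep
    {A : Type u} [CommRing A] [IsLocalRing A] (𝔞 : Ideal A) (h𝔞 : 𝔞 ≠ ⊤)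
    (hnil : ∃ n : ℕ, IsLocalRing.maximalIdeal A ^ n ≤ 𝔞)
    {Q : Type u} [AddCommGroup Q] [Module A Q] {J : Type u} (v : J → Q)
    (hspan : Submodule.span (IsLocalRing.ResidueField A)
      (Set.range fun j => (1 : IsLocalRing.ResidueField A) ⊗ₜ[A] v j) = ⊤)
    (hind : ∀ c : J →₀ A, Finsupp.linearCombination A v c ∈ 𝔞 • (⊤ : Submodule A Q) →
      ∀ j, c j ∈ 𝔞) :
    Module.Flat (A ⧸ 𝔞) ((A ⧸ 𝔞) ⊗[A] Q) := by
  classical
  let vb : J → (A ⧸ 𝔞) ⊗[A] Q := fun j => (1 : A ⧸ 𝔞) ⊗ₜ[A] v j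
  -- key formula
  have hform : ∀ c : J →₀ A,
      Finsupp.linearCombination (A ⧸ 𝔞) vb (Finsupp.mapRange (Ideal.Quotient.mk 𝔞) (map_zero _) c) =
        (1 : A ⧸ 𝔞) ⊗ₜ[A] Finsupp.linearCombination A v c := by
    intro c
    rw [Finsupp.linearCombination_apply, Finsupp.linearCombination_apply,
      Finsupp.sum_mapRange_index (h := fun i (a : A ⧸ 𝔞) => a • vb i) (fun _ => zero_smul _ _),
      Finsupp.sum, Finsupp.sum, TensorProduct.tmul_sum]
    refine Finset.sum_congr rfl fun j _ => ?_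
    exact algebraMap_smul_one_tmul (K := A ⧸ 𝔞) (c j) (v j)
  have hlift : ∀ cb : J →₀ (A ⧸ 𝔞), ∃ c : J →₀ A,
      Finsupp.mapRange (Ideal.Quotient.mk 𝔞) (map_zero _) c = cb := by
    intro cb
    exact Finsupp.mapRange_surjective _ (map_zero _) Ideal.Quotient.mk_surjective cb
  have hker : LinearMap.ker (TensorProduct.mk A (A ⧸ 𝔞) Q 1) = 𝔞 • (⊤ : Submodule A Q) :=
    LinearMap.ker_tensorProductMk _
  have hinj : Function.Injective (Finsupp.linearCombination (A ⧸ 𝔞) vb) := by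
    rw [injective_iff_map_eq_zero]
    intro cb hcb
    obtain ⟨c, rfl⟩ := hlift cb
    rw [hform c] at hcb
    have hmem : Finsupp.linearCombination A v c ∈ 𝔞 • (⊤ : Submodule A Q) := by
      rw [← hker, LinearMap.mem_ker]
      exact hcb
    ext j
    rw [Finsupp.mapRange_apply, Finsupp.zero_apply, Ideal.Quotient.eq_zero_iff_mem]
    exact hind c hmem j
  -- surjectivity by nilpotent Nakayama
  have hnilb : IsNilpotent ((IsLocalRing.maximalIdeal A).map (Ideal.Quotient.mk 𝔞)) := by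
    obtain ⟨n, hn⟩ := hnil
    refine ⟨n, ?_⟩
    rw [← Ideal.map_pow, Ideal.zero_eq_bot, Ideal.map_eq_bot_iff_le_ker, Ideal.mk_ker]
    exact hn
  have hsurj : Function.Surjective (Finsupp.linearCombination (A ⧸ 𝔞) vb) := by
    rw [← LinearMap.range_eq_top, Finsupp.range_linearCombination]
    apply Groth.Agent.Lib.Helper6.NilpNakayama.eq_top_of_sup_smul_top_of_isNilpotent _ hnilb
    rw [eq_top_iff]
    intro z _
    induction z using TensorProduct.induction_on with
    | zero => exact Submodule.zero_mem _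
    | add x y hx hy => exact Submodule.add_mem _ (hx Submodule.mem_top) (hy Submodule.mem_top)
    | tmul ab q =>
      -- `ab ⊗ q = ab • (1 ⊗ q)`
      have h1 : ab ⊗ₜ[A] q = ab • ((1 : A ⧸ 𝔞) ⊗ₜ[A] q) := by
        rw [TensorProduct.smul_tmul', smul_eq_mul, mul_one]
      rw [h1]
      refine Submodule.smul_mem _ _ ?_
      -- decompose `q` modulo `𝔪`
      have hq : (1 : IsLocalRing.ResidueField A) ⊗ₜ[A] q ∈ Submodule.span (IsLocalRing.ResidueField A)
          (Set.range fun j => (1 : IsLocalRing.ResidueField A) ⊗ₜ[A] v j) := by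
        rw [hspan]
        exact Submodule.mem_top
      rw [Finsupp.mem_span_range_iff_exists_finsupp] at hq
      obtain ⟨κ, hκ⟩ := hq
      obtain ⟨c, rfl⟩ : ∃ c : J →₀ A,
          Finsupp.mapRange (IsLocalRing.residue A) (map_zero _) c = κ :=
        Finsupp.mapRange_surjective _ (map_zero _) IsLocalRing.residue_surjective κ
      have h2 : (1 : IsLocalRing.ResidueField A) ⊗ₜ[A] (q - Finsupp.linearCombination A v c) = 0 := by
        rw [TensorProduct.tmul_sub, ← hκ, sub_eq_zero, Finsupp.linearCombination_apply,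
          Finsupp.sum_mapRange_index (h := fun i (a : IsLocalRing.ResidueField A) =>
            a • ((1 : IsLocalRing.ResidueField A) ⊗ₜ[A] v i)) (fun _ => zero_smul _ _),
          Finsupp.sum, Finsupp.sum, TensorProduct.tmul_sum]
        refine Finset.sum_congr rfl fun j _ => ?_
        exact algebraMap_smul_one_tmul (K := IsLocalRing.ResidueField A) (c j) (v j)
      have h3 : q - Finsupp.linearCombination A v c ∈
          IsLocalRing.maximalIdeal A • (⊤ : Submodule A Q) := by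
        rw [← LinearMap.ker_tensorProductMk (R := A) (I := IsLocalRing.maximalIdeal A) Q,
          LinearMap.mem_ker]
        exact h2
      have h4 : (1 : A ⧸ 𝔞) ⊗ₜ[A] (q - Finsupp.linearCombination A v c) ∈
          (IsLocalRing.maximalIdeal A).map (Ideal.Quotient.mk 𝔞) •
            (⊤ : Submodule (A ⧸ 𝔞) ((A ⧸ 𝔞) ⊗[A] Q)) := by
        refine Submodule.smul_induction_on h3 ?_ ?_
        · intro a ha n _
          have : (1 : A ⧸ 𝔞) ⊗ₜ[A] (a • n) = Ideal.Quotient.mk 𝔞 a • ((1 : A ⧸ 𝔞) ⊗ₜ[A] n) :=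
            (algebraMap_smul_one_tmul (K := A ⧸ 𝔞) a n).symm
          rw [this]
          exact Submodule.smul_mem_smul (Ideal.mem_map_of_mem _ ha) Submodule.mem_top
        · intro x y hx hy
          rw [TensorProduct.tmul_add]
          exact Submodule.add_mem _ hx hy
      have h5 : (1 : A ⧸ 𝔞) ⊗ₜ[A] q = (1 : A ⧸ 𝔞) ⊗ₜ[A] Finsupp.linearCombination A v c +
          (1 : A ⧸ 𝔞) ⊗ₜ[A] (q - Finsupp.linearCombination A v c) := by
        rw [← TensorProduct.tmul_add, add_sub_cancel]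
      rw [h5]
      refine Submodule.add_mem _ (Submodule.mem_sup_left ?_) (Submodule.mem_sup_right h4)
      rw [← hform c, ← Finsupp.range_linearCombination]
      exact LinearMap.mem_range_self _ _
  have hfree : Module.Free (A ⧸ 𝔞) ((A ⧸ 𝔞) ⊗[A] Q) :=
    Module.Free.of_equiv (LinearEquiv.ofBijective _ ⟨hinj, hsurj⟩)
  infer_instance

/-- `T • y ∈ I • ⊤` in `P_𝔮` with `T ∉ 𝔮` implies `y ∈ I • ⊤`. -/
theorem mem_smul_top_of_smul_mem_gen {A₀ : Type u} [CommRing A₀] (I : Ideal A₀)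
    {C : Type u} [CommRing C] [Algebra A₀ C]
    {P : Type u} [AddCommGroup P] [Module C P] [Module A₀ P] [IsScalarTower A₀ C P]
    (𝔮 : Ideal C) [𝔮.IsPrime] (T : C) (hT : T ∈ 𝔮.primeCompl)
    (y : LocalizedModule 𝔮.primeCompl P)
    (h : T • y ∈ I • (⊤ : Submodule A₀ (LocalizedModule 𝔮.primeCompl P))) :
    y ∈ I • (⊤ : Submodule A₀ (LocalizedModule 𝔮.primeCompl P)) := by
  have hbij : Function.Bijective
      (DistribSMul.toLinearMap A₀ (LocalizedModule 𝔮.primeCompl P) T) := by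
    have hu := IsLocalizedModule.map_units (LocalizedModule.mkLinearMap 𝔮.primeCompl P) ⟨T, hT⟩
    rw [Module.End.isUnit_iff] at hu
    exact hu
  have hmap : Submodule.map (DistribSMul.toLinearMap A₀ (LocalizedModule 𝔮.primeCompl P) T)
      (I • (⊤ : Submodule A₀ (LocalizedModule 𝔮.primeCompl P))) =
      I • (⊤ : Submodule A₀ (LocalizedModule 𝔮.primeCompl P)) := by
    rw [Submodule.map_smul'', Submodule.map_top, LinearMap.range_eq_top.2 hbij.2]
  rw [← hmap] at h
  obtain ⟨y', hy', hyy⟩ := h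
  have : y' = y := hbij.1 hyy
  rwa [← this]

section Single

variable {A : Type u} [CommRing A] [IsLocalRing A]
  {B : Type u} [CommRing B] [Algebra A B] [IsNoetherianRing B]
  {M : Type u} [AddCommGroup M] [Module B M] [Module A M] [IsScalarTower A B M] [Module.Finite B M]
  (𝔭 : Ideal B) [𝔭.IsPrime]

local notation "Q" => LocalizedModule 𝔭.primeCompl M
local notation "k" => IsLocalRing.ResidueField A

variable {A' : Type u} [CommRing A'] [IsLocalRing A'] [Algebra A A']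
    [IsLocalHom (algebraMap A A')]
    {B' : Type u} [CommRing B'] [Algebra A B'] [Algebra A' B'] [Algebra B B']
    [IsScalarTower A A' B'] [IsScalarTower A B B'] [Algebra.IsPushout A A' B B']

omit [IsLocalRing A] [IsNoetherianRing B] [Module.Finite B M] [𝔭.IsPrime] [IsLocalRing A']
  [IsLocalHom (algebraMap A A')] [Algebra.IsPushout A A' B B'] in
/-- `1 ⊗ y ∈ I' • ⊤` when `y ∈ 𝔞 • ⊤` and `𝔞 A' ≤ I'`. -/
theorem one_tmul_mem_smul_top (𝔞 : Ideal A) (I' : Ideal A')
    (h𝔞I' : 𝔞.map (algebraMap A A') ≤ I') (y : M) (hy : y ∈ 𝔞 • (⊤ : Submodule A M)) :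
    (1 : B') ⊗ₜ[B] y ∈ I' • (⊤ : Submodule A' (B' ⊗[B] M)) := by
  refine Submodule.smul_induction_on hy ?_ ?_
  · intro a ha n _
    have hsc : algebraMap A B a • (1 : B') = algebraMap A A' a • (1 : B') := by
      rw [algebraMap_smul, algebraMap_smul]
    have e1 : (1 : B') ⊗ₜ[B] (a • n) = algebraMap A A' a • ((1 : B') ⊗ₜ[B] n) := by
      rw [TensorProduct.smul_tmul', ← hsc, ← algebraMap_smul B a n, TensorProduct.smul_tmul]
    rw [e1]
    exact Submodule.smul_mem_smul (h𝔞I' (Ideal.mem_map_of_mem _ ha)) Submodule.mem_top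
  · intro x y hx hy
    rw [TensorProduct.tmul_add]
    exact Submodule.add_mem _ hx hy

theorem algebraMap_mem_of_relation_mod
    (𝔞 : Ideal A) (I' : Ideal A') (hI' : I' ≠ ⊤) (h𝔞I' : 𝔞.map (algebraMap A A') ≤ I')
    (hflat : ∀ (𝔮 : Ideal B') [𝔮.IsPrime], 𝔮.comap (algebraMap B B') = 𝔭 →
        𝔮.comap (algebraMap A' B') = IsLocalRing.maximalIdeal A' →
        Module.Flat A' (LocalizedModule 𝔮.primeCompl (B' ⊗[B] M)))
    {J : Type u} (v : J → Q) (hv : LinearIndependent k (fun j => (1 : k) ⊗ₜ[A] v j))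
    (c : J →₀ A) (hc : Finsupp.linearCombination A v c ∈ 𝔞 • (⊤ : Submodule A Q)) (j : J) :
    algebraMap A A' (c j) ∈ I' := by
  classical
  set s := c.support with hs
  by_cases hj : j ∈ s
  swap
  · rw [Finsupp.notMem_support_iff.1 hj, map_zero]
    exact Ideal.zero_mem _
  -- clear denominators
  have hsur : ∀ j, ∃ x : M × 𝔭.primeCompl,
      x.2 • v j = LocalizedModule.mkLinearMap 𝔭.primeCompl M x.1 :=
    fun j => IsLocalizedModule.surj 𝔭.primeCompl (LocalizedModule.mkLinearMap 𝔭.primeCompl M) (v j)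
  choose x hx using hsur
  let T : B := ∏ l ∈ s, ((x l).2 : B)
  have hT : T ∈ 𝔭.primeCompl := Submonoid.prod_mem _ fun l _ => (x l).2.2
  obtain ⟨m, hm⟩ : ∃ m : J → M,
      ∀ j ∈ s, LocalizedModule.mkLinearMap 𝔭.primeCompl M (m j) = T • v j := by
    refine ⟨fun j => (∏ l ∈ s.erase j, ((x l).2 : B)) • (x j).1, fun j hj => ?_⟩
    change LocalizedModule.mkLinearMap 𝔭.primeCompl M
      ((∏ l ∈ s.erase j, ((x l).2 : B)) • (x j).1) = _
    rw [map_smul, ← hx j, Submonoid.smul_def, smul_smul, Finset.prod_erase_mul _ _ hj]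
  -- the relation in M
  have hrelQ : LocalizedModule.mkLinearMap 𝔭.primeCompl M (∑ j ∈ s, c j • m j) ∈
      𝔞 • (⊤ : Submodule A Q) := by
    rw [map_sum]
    have : ∀ j ∈ s, LocalizedModule.mkLinearMap 𝔭.primeCompl M (c j • m j) = T • (c j • v j) := by
      intro j hj
      rw [← algebraMap_smul B (c j) (m j), map_smul, hm j hj, algebraMap_smul, smul_comm]
    rw [Finset.sum_congr rfl this, ← Finset.smul_sum]
    have h0 : ∑ j ∈ s, c j • v j = Finsupp.linearCombination A v c := by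
      rw [Finsupp.linearCombination_apply, Finsupp.sum]
    rw [h0]
    exact smul_mem_smul_top_of_tower 𝔞 T hc
  obtain ⟨t', ht'mem, ht'⟩ := exists_smul_mem_of_mk_mem 𝔭.primeCompl 𝔞 _ hrelQ
  -- apply the family lemma
  haveI : ∀ l : PrimesOver 𝔭 A' B', Module.Flat A' (LocalizedModule l.1.primeCompl (B' ⊗[B] M)) :=
    fun l => hflat l.1 l.2.2.1 l.2.2.2
  have hmain := Groth.Agent.Lib.Helper92.AdicFamFI.mem_of_family_flat_mod (A' := A') I' hI'
    (N := fun l : PrimesOver 𝔭 A' B' => LocalizedModule l.1.primeCompl (B' ⊗[B] M)) s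
    (fun j l => LocalizedModule.mkLinearMap l.1.primeCompl (B' ⊗[B] M) ((1 : B') ⊗ₜ[B] m j))
    (fun j => algebraMap A A' (c j)) ?_ ?_
  · exact hmain j hj
  · -- JI
    intro b hb
    refine mem_maximalIdeal_of_family (B' := B') 𝔭 s m (hind_of_basis 𝔭 v hv s T hT m hm) b ?_
    intro 𝔮 h𝔮 h1 h2
    have := hb ⟨𝔮, h𝔮, h1, h2⟩
    simp only at this
    convert this using 1
    rw [map_sum]
    refine Finset.sum_congr rfl fun j _ => ?_
    rw [← algebraMap_smul B' (b j), map_smul, algebraMap_smul]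
  · -- relation
    intro l
    have h1 : ∑ j ∈ s, algebraMap A A' (c j) •
        LocalizedModule.mkLinearMap l.1.primeCompl (B' ⊗[B] M) ((1 : B') ⊗ₜ[B] m j) =
        LocalizedModule.mkLinearMap l.1.primeCompl (B' ⊗[B] M)
          ((1 : B') ⊗ₜ[B] (∑ j ∈ s, c j • m j)) := by
      rw [TensorProduct.tmul_sum, map_sum]
      refine Finset.sum_congr rfl fun j _ => ?_
      have hsc : algebraMap A B (c j) • (1 : B') = algebraMap A A' (c j) • (1 : B') := by
        rw [algebraMap_smul, algebraMap_smul]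
      have e1 : (1 : B') ⊗ₜ[B] (c j • m j) = algebraMap A A' (c j) • ((1 : B') ⊗ₜ[B] m j) := by
        rw [TensorProduct.smul_tmul', ← hsc, ← algebraMap_smul B (c j) (m j),
          TensorProduct.smul_tmul]
      rw [e1, LinearMap.map_smul_of_tower]
    rw [h1]
    have ht'l : algebraMap B B' t' ∈ l.1.primeCompl := by
      intro hmem
      have : t' ∈ l.1.comap (algebraMap B B') := hmem
      rw [l.2.2.1] at this
      exact ht'mem this
    apply mem_smul_top_of_smul_mem_gen I' l.1 (algebraMap B B' t') ht'l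
    rw [← map_smul]
    have h2 : algebraMap B B' t' • ((1 : B') ⊗ₜ[B] (∑ j ∈ s, c j • m j)) =
        (1 : B') ⊗ₜ[B] (t' • ∑ j ∈ s, c j • m j) := by
      rw [TensorProduct.smul_tmul', smul_eq_mul, mul_one,
        show algebraMap B B' t' = t' • (1 : B') by rw [Algebra.smul_def, mul_one],
        TensorProduct.smul_tmul]
    rw [h2]
    have h3 := one_tmul_mem_smul_top (B := B) (M := M) (B' := B') 𝔞 I' h𝔞I' _ ht'
    have h4 := Submodule.mem_map_of_mem
      (f := (LocalizedModule.mkLinearMap l.1.primeCompl (B' ⊗[B] M)).restrictScalars A') h3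
    rw [Submodule.map_smul''] at h4
    exact Submodule.smul_mono le_rfl le_top h4

end Single

/-- adic family criterion, ring level (EGA IV 11.5.? / S4857 core) -/
theorem flat_localized_of_adic_family
    {A : Type u} [CommRing A] [IsLocalRing A] [IsNoetherianRing A]
    {B : Type u} [CommRing B] [Algebra A B] [IsNoetherianRing B]
    {M : Type u} [AddCommGroup M] [Module B M] [Module A M] [IsScalarTower A B M] [Module.Finite B M]
    (𝔭 : Ideal B) [𝔭.IsPrime] (h𝔭 : 𝔭.comap (algebraMap A B) = IsLocalRing.maximalIdeal A)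
    {ι : Type u} (A' : ι → Type u) [∀ i, CommRing (A' i)] [∀ i, IsLocalRing (A' i)]
    [∀ i, Algebra A (A' i)] [∀ i, IsLocalHom (algebraMap A (A' i))]
    (htop : ∀ N : ℕ, ∃ s : Finset (ι × ℕ),
      ⨅ p ∈ s, Ideal.comap (algebraMap A (A' p.1)) (IsLocalRing.maximalIdeal (A' p.1) ^ p.2) ≤
        IsLocalRing.maximalIdeal A ^ N)
    (B' : ι → Type u) [∀ i, CommRing (B' i)] [∀ i, Algebra A (B' i)] [∀ i, Algebra (A' i) (B' i)]
    [∀ i, Algebra B (B' i)] [∀ i, IsScalarTower A (A' i) (B' i)] [∀ i, IsScalarTower A B (B' i)]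
    [∀ i, Algebra.IsPushout A (A' i) B (B' i)]
    (hflat : ∀ (i : ι) (𝔮 : Ideal (B' i)) [𝔮.IsPrime],
        𝔮.comap (algebraMap B (B' i)) = 𝔭 →
        𝔮.comap (algebraMap (A' i) (B' i)) = IsLocalRing.maximalIdeal (A' i) →
        Module.Flat (A' i) (LocalizedModule 𝔮.primeCompl (B' i ⊗[B] M))) :
    Module.Flat A (LocalizedModule 𝔭.primeCompl M) := by
  classical
  apply Groth.Agent.Lib.Helper76.AdicFamLC.flat_localized_of_forall_flat_quotient_pow 𝔭 h𝔭
  intro N hN
  obtain ⟨s, hs⟩ := htop N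
  obtain ⟨𝔞, h𝔞def⟩ : ∃ 𝔞 : Ideal A, 𝔞 = ⨅ p ∈ s, Ideal.comap (algebraMap A (A' p.1))
      (IsLocalRing.maximalIdeal (A' p.1) ^ p.2) := ⟨_, rfl⟩
  rw [← h𝔞def] at hs
  refine flat_quotient_tensor_of_le 𝔞 _ hs ?_
  have h𝔞ne : 𝔞 ≠ ⊤ := by
    intro h
    rw [h] at hs
    have h1 : (⊤ : Ideal A) ≤ IsLocalRing.maximalIdeal A := hs.trans (Ideal.pow_le_self hN.ne')
    exact (IsLocalRing.maximalIdeal.isMaximal A).ne_top (top_le_iff.mp h1)
  have hmapmax : ∀ i, (IsLocalRing.maximalIdeal A).map (algebraMap A (A' i)) ≤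
      IsLocalRing.maximalIdeal (A' i) := by
    intro i
    rw [Ideal.map_le_iff_le_comap]
    intro a ha
    rw [Ideal.mem_comap, IsLocalRing.mem_maximalIdeal, mem_nonunits_iff]
    intro hu
    exact (IsLocalRing.mem_maximalIdeal a).mp ha (isUnit_of_map_unit (algebraMap A (A' i)) a hu)
  have hnil : ∃ n : ℕ, IsLocalRing.maximalIdeal A ^ n ≤ 𝔞 := by
    refine ⟨s.sup (fun p => p.2), ?_⟩
    rw [h𝔞def]
    refine le_iInf₂ (fun p hp => ?_)
    have h1 : IsLocalRing.maximalIdeal A ^ (s.sup fun p => p.2) ≤ IsLocalRing.maximalIdeal A ^ p.2 :=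
      Ideal.pow_le_pow_right (Finset.le_sup (f := fun p : ι × ℕ => p.2) hp)
    refine h1.trans ?_
    rw [← Ideal.map_le_iff_le_comap, Ideal.map_pow]
    exact Ideal.pow_right_mono (hmapmax p.1) _
  let w := Module.Free.chooseBasis (IsLocalRing.ResidueField A)
    (IsLocalRing.ResidueField A ⊗[A] LocalizedModule 𝔭.primeCompl M)
  have ⟨v, eq⟩ := (TensorProduct.mk_surjective A (LocalizedModule 𝔭.primeCompl M)
    (IsLocalRing.ResidueField A) Ideal.Quotient.mk_surjective).comp_left w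
  have hv : ∀ j, (1 : IsLocalRing.ResidueField A) ⊗ₜ[A] v j = w j := fun j => congrFun eq j
  have hfun : (fun j => (1 : IsLocalRing.ResidueField A) ⊗ₜ[A] v j) = ⇑w := funext hv
  have hvind : LinearIndependent (IsLocalRing.ResidueField A)
      (fun j => (1 : IsLocalRing.ResidueField A) ⊗ₜ[A] v j) := by
    rw [hfun]
    exact w.linearIndependent
  have hspan : Submodule.span (IsLocalRing.ResidueField A)
      (Set.range fun j => (1 : IsLocalRing.ResidueField A) ⊗ₜ[A] v j) = ⊤ := by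
    rw [hfun]
    exact w.span_eq
  refine flat_quotient_tensor_of_basis_of_indep 𝔞 h𝔞ne hnil v hspan ?_
  intro c hc j
  rw [h𝔞def, Ideal.mem_iInf]
  intro p
  rw [Ideal.mem_iInf]
  intro hp
  rw [Ideal.mem_comap]
  by_cases hp0 : p.2 = 0
  · rw [hp0, pow_zero, Ideal.one_eq_top]
    exact Submodule.mem_top
  · have hne : IsLocalRing.maximalIdeal (A' p.1) ^ p.2 ≠ ⊤ := by
      intro h
      have h1 : (⊤ : Ideal (A' p.1)) ≤ IsLocalRing.maximalIdeal (A' p.1) :=
        h ▸ Ideal.pow_le_self hp0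
      exact (IsLocalRing.maximalIdeal.isMaximal (A' p.1)).ne_top (top_le_iff.mp h1)
    have hle : 𝔞.map (algebraMap A (A' p.1)) ≤ IsLocalRing.maximalIdeal (A' p.1) ^ p.2 := by
      rw [Ideal.map_le_iff_le_comap, h𝔞def]
      exact iInf₂_le p hp
    exact algebraMap_mem_of_relation_mod (B' := B' p.1) 𝔭 𝔞 _ hne hle (hflat p.1) v hvind c hc j

end Groth.Agent.Lib.Helper55.FamFlat
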