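import Groth.Agent.Lib.Helper55.FamFlat.Bridge
import Groth.Agent.Lib.Helper55.FamFlat.Adic

set_option autoImplicit false
set_option linter.style.haveILetI false
set_option linter.unusedSectionVars false
universe u

open AlgebraicGeometry CategoryTheory Limits TopologicalSpace Opposite TensorProduct

namespace Groth.Agent.Lib.Helper55.FamFlat

open Groth.Agent.Lib.Lead.QCohAff Groth.Agent.Lib.Lead.CohAff Groth.Agent.Lib.Helper55.FL
  Groth.Agent.Lib.Lead.PullbackAff

section SpecLocal2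

variable (R : Type u) [CommRing R]

theorem isNoetherianRing_Γtop [IsNoetherianRing R] :
    IsNoetherianRing Γ(Spec (CommRingCat.of R), ⊤) :=
  isNoetherianRing_of_ringEquiv R (ΓtopEquiv R).symm

theorem comap_ΓtopEquiv_maximalIdeal_pow [IsLocalRing R] (n : ℕ) :
    haveI := isLocalRing_Γtop R
    Ideal.comap (ΓtopEquiv R) (IsLocalRing.maximalIdeal R ^ n) =
      IsLocalRing.maximalIdeal Γ(Spec (CommRingCat.of R), ⊤) ^ n := by
  haveI := isLocalRing_Γtop R
  rw [← IsLocalRing.map_ringEquiv_maximalIdeal (ΓtopEquiv R).symm, ← Ideal.map_pow,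
    Ideal.map_symm]

end SpecLocal2


open CategoryTheory.Limits in
theorem isFlatOverAt_of_adic_family {O : Type u} [CommRing O] [IsLocalRing O] [IsNoetherianRing O]
    {X : Scheme.{u}} (f : X ⟶ Spec (CommRingCat.of O)) [LocallyOfFiniteType f] (F : X.Modules)
    (hF : Coh.IsCoh F) (x : X) (hx : f x = IsLocalRing.closedPoint O)
    {ι : Type u} (A' : ι → Type u) [∀ i, CommRing (A' i)] [∀ i, IsLocalRing (A' i)]
    (u : ∀ i, O →+* A' i) [∀ i, IsLocalHom (u i)]
    (htop : ∀ N : ℕ, ∃ s : Finset (ι × ℕ),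
      ⨅ p ∈ s, Ideal.comap (u p.1) (IsLocalRing.maximalIdeal (A' p.1) ^ p.2) ≤
        IsLocalRing.maximalIdeal O ^ N)
    (hflat : ∀ (i : ι) (x' : ↥(pullback f (Spec.map (CommRingCat.ofHom (u i))))),
      pullback.fst f (Spec.map (CommRingCat.ofHom (u i))) x' = x →
      pullback.snd f (Spec.map (CommRingCat.ofHom (u i))) x' = IsLocalRing.closedPoint (A' i) →
      FlatMod.IsFlatOverAt (pullback.snd f (Spec.map (CommRingCat.ofHom (u i))))
        ((Scheme.Modules.pullback (pullback.fst f (Spec.map (CommRingCat.ofHom (u i))))).obj F) x') :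
    FlatMod.IsFlatOverAt f F x := by
  haveI : F.IsQuasicoherent := hF.1
  have hFT := hF.2
  haveI : IsLocallyNoetherian X := LocallyOfFiniteType.isLocallyNoetherian f
  obtain ⟨U, hU, hxU, -⟩ := exists_isAffineOpen_mem_and_subset (U := (⊤ : X.Opens)) (x := x) trivial
  have hV : IsAffineOpen (⊤ : (Spec (CommRingCat.of O)).Opens) := isAffineOpen_top _
  have hUV : U ≤ f ⁻¹ᵁ ⊤ := fun _ _ => trivial
  rw [isFlatOverAt_iff_flat_localizedModule f F hU hV hUV x hxU]
  -- per-index geometric data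
  let g : ∀ i, Spec (CommRingCat.of (A' i)) ⟶ Spec (CommRingCat.of O) :=
    fun i => Spec.map (CommRingCat.ofHom (u i))
  let W : ∀ i, (pullback f (g i)).Opens :=
    fun i => (pullback.fst f (g i)) ⁻¹ᵁ U ⊓ (pullback.snd f (g i)) ⁻¹ᵁ ⊤
  have hc : ∀ i, IsPullback (pullback.fst f (g i)) (pullback.snd f (g i)) f (g i) :=
    fun i => IsPullback.of_hasPullback _ _
  have hV' : ∀ i, IsAffineOpen (⊤ : (Spec (CommRingCat.of (A' i))).Opens) :=
    fun i => isAffineOpen_top _
  have e' : ∀ i, (⊤ : (Spec (CommRingCat.of (A' i))).Opens) ≤ (g i) ⁻¹ᵁ ⊤ :=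
    fun i _ _ => trivial
  have hW : ∀ i, IsAffineOpen (W i) := fun i => by
    have : IsAffine (⊤ : (Spec (CommRingCat.of O)).Opens) := hV
    have : IsAffine (⊤ : (Spec (CommRingCat.of (A' i))).Opens) := hV' i
    have : IsAffine U := hU
    exact .of_isIso (Scheme.Hom.isPullback_resLE (hc i) (e' i) hUV rfl).isoPullback.hom
  have hpush := fun i => (isIso_pushoutSection_iff (hc i) (e' i) hUV rfl).mp
    (isIso_pushoutSection_of_isAffineOpen (hc i) (e' i) hUV rfl hV (hV' i) hU)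
  -- ring-level instances
  haveI locA : IsLocalRing Γ(Spec (CommRingCat.of O), ⊤) := isLocalRing_Γtop O
  haveI locA' : ∀ i, IsLocalRing Γ(Spec (CommRingCat.of (A' i)), ⊤) :=
    fun i => isLocalRing_Γtop (A' i)
  letI algAB : Algebra Γ(Spec (CommRingCat.of O), ⊤) Γ(X, U) := (f.appLE ⊤ U hUV).hom.toAlgebra
  letI modAM : Module Γ(Spec (CommRingCat.of O), ⊤) Γ(F, U) :=
    Module.compHom Γ(F, U) (f.appLE ⊤ U hUV).hom
  haveI towM : IsScalarTower Γ(Spec (CommRingCat.of O), ⊤) Γ(X, U) Γ(F, U) :=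
    IsScalarTower.of_algebraMap_smul fun _ _ => rfl
  haveI noeB : IsNoetherianRing Γ(X, U) := IsLocallyNoetherian.component_noetherian ⟨U, hU⟩
  haveI finM : Module.Finite Γ(X, U) Γ(F, U) := finite_sections_of_isFiniteType F hFT hU
  letI algAA' : ∀ i, Algebra Γ(Spec (CommRingCat.of O), ⊤) Γ(Spec (CommRingCat.of (A' i)), ⊤) :=
    fun i => ((g i).appLE ⊤ ⊤ (e' i)).hom.toAlgebra
  letI algBB' : ∀ i, Algebra Γ(X, U) Γ(pullback f (g i), W i) :=
    fun i => ((pullback.fst f (g i)).appLE U (W i) inf_le_left).hom.toAlgebra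
  letI algA'B' : ∀ i, Algebra Γ(Spec (CommRingCat.of (A' i)), ⊤) Γ(pullback f (g i), W i) :=
    fun i => ((pullback.snd f (g i)).appLE ⊤ (W i) inf_le_right).hom.toAlgebra
  letI algAB' : ∀ i, Algebra Γ(Spec (CommRingCat.of O), ⊤) Γ(pullback f (g i), W i) :=
    fun i => ((algebraMap Γ(X, U) Γ(pullback f (g i), W i)).comp
      (algebraMap Γ(Spec (CommRingCat.of O), ⊤) Γ(X, U))).toAlgebra
  haveI t1 : ∀ i, IsScalarTower Γ(Spec (CommRingCat.of O), ⊤) Γ(X, U) Γ(pullback f (g i), W i) :=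
    fun i => IsScalarTower.of_algebraMap_eq' rfl
  haveI t2 : ∀ i, IsScalarTower Γ(Spec (CommRingCat.of O), ⊤)
      Γ(Spec (CommRingCat.of (A' i)), ⊤) Γ(pullback f (g i), W i) :=
    fun i => IsScalarTower.of_algebraMap_eq' (by
      have := congrArg CommRingCat.Hom.hom (hpush i).w
      exact this)
  haveI hP : ∀ i, Algebra.IsPushout Γ(Spec (CommRingCat.of O), ⊤)
      Γ(Spec (CommRingCat.of (A' i)), ⊤) Γ(X, U) Γ(pullback f (g i), W i) := fun i => by
    apply Algebra.IsPushout.symm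
    exact CommRingCat.isPushout_iff_isPushout.mp (hpush i)
  haveI noeA : IsNoetherianRing Γ(Spec (CommRingCat.of O), ⊤) := isNoetherianRing_Γtop O
  -- naturality of `ΓtopEquiv`
  have hnat : ∀ (i : ι) (a : Γ(Spec (CommRingCat.of O), ⊤)),
      ΓtopEquiv (A' i) (algebraMap Γ(Spec (CommRingCat.of O), ⊤)
        Γ(Spec (CommRingCat.of (A' i)), ⊤) a) = u i (ΓtopEquiv O a) := by
    intro i a
    have h2 : (g i).appLE ⊤ ⊤ (e' i) = (g i).appTop := Scheme.Hom.appLE_eq_app _
    have h3 := congrArg (fun φ => φ.hom a)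
      (Scheme.ΓSpecIso_naturality (CommRingCat.ofHom (u i)))
    simp only [CommRingCat.hom_comp, RingHom.coe_comp, Function.comp_apply,
      CommRingCat.hom_ofHom] at h3
    change (Scheme.ΓSpecIso (CommRingCat.of (A' i))).hom.hom (((g i).appLE ⊤ ⊤ (e' i)).hom a) =
      (u i) ((Scheme.ΓSpecIso (CommRingCat.of O)).hom.hom a)
    rw [h2]
    exact h3
  haveI locHom : ∀ i, IsLocalHom (algebraMap Γ(Spec (CommRingCat.of O), ⊤)
      Γ(Spec (CommRingCat.of (A' i)), ⊤)) := by
    intro i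
    refine ⟨fun a ha => ?_⟩
    have h1 : IsUnit (ΓtopEquiv (A' i) (algebraMap Γ(Spec (CommRingCat.of O), ⊤)
        Γ(Spec (CommRingCat.of (A' i)), ⊤) a)) := ha.map (ΓtopEquiv (A' i))
    rw [hnat i a] at h1
    have h2 : IsUnit (ΓtopEquiv O a) := isUnit_of_map_unit (u i) _ h1
    have h3 := h2.map (ΓtopEquiv O).symm
    simpa using h3
  have h𝔭 : (hU.primeIdealOf ⟨x, hxU⟩).asIdeal.comap
      (algebraMap Γ(Spec (CommRingCat.of O), ⊤) Γ(X, U)) =
      IsLocalRing.maximalIdeal Γ(Spec (CommRingCat.of O), ⊤) := by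
    have h1 := IsAffineOpen.comap_primeIdealOf_appLE (f := f) ⊤ hV U hU hUV hxU
    have h2 : hV.primeIdealOf ⟨f x, trivial⟩ =
        IsLocalRing.closedPoint Γ(Spec (CommRingCat.of O), ⊤) := by
      apply hV.fromSpec.isOpenEmbedding.injective
      rw [hV.fromSpec_primeIdealOf ⟨f x, trivial⟩]
      rw [IsAffineOpen.fromSpec_top, Scheme.isoSpec_Spec_inv]
      haveI : IsLocalHom (Scheme.ΓSpecIso (CommRingCat.of O)).inv.hom :=
        isLocalHom_of_isIso _
      refine hx.trans ?_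
      exact (IsLocalRing.comap_closedPoint _).symm
    have h3 := congrArg PrimeSpectrum.asIdeal (h1.trans h2)
    exact h3
  refine flat_localized_of_adic_family (A := Γ(Spec (CommRingCat.of O), ⊤))
    (B := Γ(X, U)) (M := Γ(F, U))
    (hU.primeIdealOf ⟨x, hxU⟩).asIdeal h𝔭
    (fun i => Γ(Spec (CommRingCat.of (A' i)), ⊤)) ?_
    (fun i => Γ(pullback f (g i), W i)) ?_
  · intro N
    obtain ⟨s, hs⟩ := htop N
    refine ⟨s, ?_⟩
    rw [← comap_ΓtopEquiv_maximalIdeal_pow O N]
    have h1 : ∀ p : ι × ℕ, Ideal.comap (algebraMap Γ(Spec (CommRingCat.of O), ⊤)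
        Γ(Spec (CommRingCat.of (A' p.1)), ⊤))
        (IsLocalRing.maximalIdeal Γ(Spec (CommRingCat.of (A' p.1)), ⊤) ^ p.2) =
        Ideal.comap (ΓtopEquiv O) (Ideal.comap (u p.1)
          (IsLocalRing.maximalIdeal (A' p.1) ^ p.2)) := by
      intro p
      rw [← comap_ΓtopEquiv_maximalIdeal_pow (A' p.1) p.2]
      ext a
      simp only [Ideal.mem_comap]
      rw [hnat p.1 a]
    simp only [h1]
    have h2 : (⨅ p ∈ s, Ideal.comap (ΓtopEquiv O) (Ideal.comap (u p.1)
        (IsLocalRing.maximalIdeal (A' p.1) ^ p.2))) =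
        Ideal.comap (ΓtopEquiv O) (⨅ p ∈ s, Ideal.comap (u p.1)
          (IsLocalRing.maximalIdeal (A' p.1) ^ p.2)) := by
      simp only [Ideal.comap_iInf]
    rw [h2]
    exact Ideal.comap_mono hs
  · intro i 𝔮 h𝔮 hB hA'
    obtain ⟨x', hx'W, hprime⟩ := exists_point_of_prime (hW i) ⟨𝔮, h𝔮⟩
    have hq : ((hW i).primeIdealOf ⟨x', hx'W⟩).asIdeal = 𝔮 :=
      congrArg PrimeSpectrum.asIdeal hprime
    have hfst : pullback.fst f (g i) x' = x := by
      have hmem : pullback.fst f (g i) x' ∈ U := hx'W.1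
      apply primeIdealOf_injective hU hmem hxU
      rw [← IsAffineOpen.comap_primeIdealOf_appLE U hU (W i) (hW i) inf_le_left hx'W]
      apply PrimeSpectrum.ext
      change Ideal.comap _ ((hW i).primeIdealOf ⟨x', hx'W⟩).asIdeal = _
      rw [hq]
      exact hB
    have hsnd : pullback.snd f (g i) x' = IsLocalRing.closedPoint (A' i) := by
      have h1 := IsAffineOpen.comap_primeIdealOf_appLE (f := pullback.snd f (g i)) ⊤ (hV' i)
        (W i) (hW i) inf_le_right hx'W
      have h2 : (hV' i).primeIdealOf ⟨pullback.snd f (g i) x', trivial⟩ =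
          IsLocalRing.closedPoint Γ(Spec (CommRingCat.of (A' i)), ⊤) := by
        rw [← h1]
        apply PrimeSpectrum.ext
        change Ideal.comap _ ((hW i).primeIdealOf ⟨x', hx'W⟩).asIdeal = _
        rw [hq]
        exact hA'
      have h3 := (hV' i).fromSpec_primeIdealOf ⟨pullback.snd f (g i) x', trivial⟩
      rw [h2, IsAffineOpen.fromSpec_top, Scheme.isoSpec_Spec_inv] at h3
      refine (show _ = pullback.snd f (g i) x' from h3).symm.trans ?_
      haveI : IsLocalHom (Scheme.ΓSpecIso (CommRingCat.of (A' i))).inv.hom :=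
        isLocalHom_of_isIso _
      exact IsLocalRing.comap_closedPoint _
    have key := hflat i x' hfst hsnd
    haveI qcG : ((Scheme.Modules.pullback (pullback.fst f (g i))).obj F).IsQuasicoherent :=
      inferInstance
    rw [isFlatOverAt_iff_flat_localizedModule (pullback.snd f (g i)) _ (hW i) (hV' i)
      inf_le_right x' hx'W] at key
    subst hq
    letI modA'G : Module Γ(Spec (CommRingCat.of (A' i)), ⊤)
        Γ((Scheme.Modules.pullback (pullback.fst f (g i))).obj F, W i) :=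
      Module.compHom _ ((pullback.snd f (g i)).appLE ⊤ (W i) inf_le_right).hom
    haveI towG : IsScalarTower Γ(Spec (CommRingCat.of (A' i)), ⊤) Γ(pullback f (g i), W i)
        Γ((Scheme.Modules.pullback (pullback.fst f (g i))).obj F, W i) :=
      IsScalarTower.of_algebraMap_smul fun _ _ => rfl
    let e0 := sectionsPullbackEquiv (pullback.fst f (g i)) F (hW i) hU inf_le_left
    let f1 := LocalizedModule.mkLinearMap
      ((hW i).primeIdealOf ⟨x', hx'W⟩).asIdeal.primeCompl
      (Γ(pullback f (g i), W i) ⊗[Γ(X, U)] Γ(F, U))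
    haveI : IsLocalizedModule ((hW i).primeIdealOf ⟨x', hx'W⟩).asIdeal.primeCompl
        (f1 ∘ₗ e0.toLinearMap) := IsLocalizedModule.of_linearEquiv_right _ _ e0
    let e1 := IsLocalizedModule.linearEquiv ((hW i).primeIdealOf ⟨x', hx'W⟩).asIdeal.primeCompl
      (LocalizedModule.mkLinearMap ((hW i).primeIdealOf ⟨x', hx'W⟩).asIdeal.primeCompl
        Γ((Scheme.Modules.pullback (pullback.fst f (g i))).obj F, W i))
      (f1 ∘ₗ e0.toLinearMap)
    exact Module.Flat.of_linearEquiv (e1.symm.restrictScalars Γ(Spec (CommRingCat.of (A' i)), ⊤))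


end Groth.Agent.Lib.Helper55.FamFlat
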