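import Groth.Agent.Lib.Helper29.RcA
import Groth.Agent.Lib.Helper22.FlatBC

set_option autoImplicit false
set_option linter.style.haveILetI false
universe u
open CategoryTheory CategoryTheory.Limits AlgebraicGeometry TopologicalSpace TensorProduct

namespace Groth.Agent.Lib.Helper55.FamFlat

/-- transport of flatness along a cartesian square, for a module pulled back from a further
scheme `X`. -/
theorem isFlatOverAt_pullback_of_comp {X X₁ S X' S' : Scheme.{u}} (f₁ : X₁ ⟶ S) (f' : X' ⟶ S')
    (g' : X' ⟶ X₁) (g : S' ⟶ S) (hc : IsPullback g' f' f₁ g) (p : X₁ ⟶ X) (q : X' ⟶ X)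
    (hq : g' ≫ p = q) (F : X.Modules) [F.IsQuasicoherent] (x' : X')
    (h : FlatMod.IsFlatOverAt f₁ ((Scheme.Modules.pullback p).obj F) (g' x')) :
    FlatMod.IsFlatOverAt f' ((Scheme.Modules.pullback q).obj F) x' := by
  have h1 := Groth.Agent.Lib.Helper22.FlatBC.isFlatOverAt_pullback f₁ f' g' g hc
    ((Scheme.Modules.pullback p).obj F) inferInstance x' h
  subst hq
  exact Groth.Agent.Lib.Helper29.Rc.isFlatOverAt_of_iso f'
    ((Scheme.Modules.pullbackComp g' p).app F) x' h1

end Groth.Agent.Lib.Helper55.FamFlat
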