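import Groth.Agent.Lib.Helper55.FamFlat.AdicBridge
import Groth.Agent.Lib.Helper55.FamFlat.PullbackComp
import Groth.Agent.Lib.Helper21.CohPullback

set_option autoImplicit false
set_option linter.style.haveILetI false
universe u
open CategoryTheory CategoryTheory.Limits AlgebraicGeometry

namespace Groth.Agent.Lib.Helper55.FamFlat

/-- the stalk map of `fromSpecStalk` at (a point equal to) the closed point is flat -/
theorem flat_stalkMap_fromSpecStalk {Y : Scheme.{u}} (y : Y)
    (z : ↥(Spec (Y.presheaf.stalk y))) (hz : z = IsLocalRing.closedPoint (Y.presheaf.stalk y)) :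
    ((Y.fromSpecStalk y).stalkMap z).hom.Flat := by
  subst hz
  have h1 := Scheme.stalkClosedPointTo_fromSpecStalk (X := Y) y
  have h2 : IsIso ((Y.fromSpecStalk y).stalkMap (IsLocalRing.closedPoint (Y.presheaf.stalk y)) ≫
      (stalkClosedPointIso (Y.presheaf.stalk y)).hom) := by
    change IsIso (Scheme.stalkClosedPointTo (Y.fromSpecStalk y))
    rw [h1]
    infer_instance
  have h3 : IsIso ((Y.fromSpecStalk y).stalkMap (IsLocalRing.closedPoint (Y.presheaf.stalk y))) :=
    IsIso.of_isIso_comp_right _ (stalkClosedPointIso (Y.presheaf.stalk y)).hom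
  exact RingHom.Flat.of_bijective (ConcreteCategory.bijective_of_isIso _)

open CategoryTheory.Limits in
theorem isFlatOverAt_of_adic_family_general {X Y : Scheme.{u}} [IsLocallyNoetherian Y]
    (f : X ⟶ Y) [LocallyOfFiniteType f] (F : X.Modules) (hF : Coh.IsCoh F) (x : X)
    {ι : Type u} (A : ι → Type u) [∀ i, CommRing (A i)] [∀ i, IsLocalRing (A i)]
    (φ : ∀ i, (Y.presheaf.stalk (f x) : Type u) →+* A i) [∀ i, IsLocalHom (φ i)]
    (htop : ∀ N : ℕ, ∃ s : Finset (ι × ℕ),
      ⨅ p ∈ s, Ideal.comap (φ p.1) (IsLocalRing.maximalIdeal (A p.1) ^ p.2) ≤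
        IsLocalRing.maximalIdeal ↑(Y.presheaf.stalk (f x)) ^ N) :
    letI g : ∀ i, Spec (CommRingCat.of (A i)) ⟶ Y :=
      fun i => Spec.map (CommRingCat.ofHom (φ i)) ≫ Y.fromSpecStalk (f x)
    (∀ (i : ι) (x' : ↥(pullback f (g i))), pullback.fst f (g i) x' = x →
      pullback.snd f (g i) x' = IsLocalRing.closedPoint (A i) →
      FlatMod.IsFlatOverAt (pullback.snd f (g i)) ((Scheme.Modules.pullback (pullback.fst f (g i))).obj F) x') →
    FlatMod.IsFlatOverAt f F x := by
  intro hflat
  let g : ∀ i, Spec (CommRingCat.of (A i)) ⟶ Y :=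
    fun i => Spec.map (CommRingCat.ofHom (φ i)) ≫ Y.fromSpecStalk (f x)
  haveI : F.IsQuasicoherent := hF.1
  let h : Spec (Y.presheaf.stalk (f x)) ⟶ Y := Y.fromSpecStalk (f x)
  obtain ⟨xO, hxO1, hxO2⟩ := Scheme.Pullback.exists_preimage_pullback (f := f) (g := h) x
    (IsLocalRing.closedPoint (Y.presheaf.stalk (f x))) (Scheme.fromSpecStalk_closedPoint).symm
  have hFO : Coh.IsCoh ((Scheme.Modules.pullback (pullback.fst f h)).obj F) :=
    ⟨inferInstance, Groth.Agent.Lib.Helper21.CohPullback.isFiniteType_pullback _ F hF.2⟩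
  have key : FlatMod.IsFlatOverAt (pullback.snd f h)
      ((Scheme.Modules.pullback (pullback.fst f h)).obj F) xO := by
    haveI hloc : IsLocalRing ↑(Y.presheaf.stalk (f x)) := inferInstance
    haveI hnoe : IsNoetherianRing ↑(Y.presheaf.stalk (f x)) := inferInstance
    refine @isFlatOverAt_of_adic_family ↑(Y.presheaf.stalk (f x)) _ hloc hnoe _ (pullback.snd f h) _
      ((Scheme.Modules.pullback (pullback.fst f h)).obj F) hFO xO hxO2 ι A _ _ φ _ htop ?_
    intro i x'' h1 h2
    let m := (pullbackLeftPullbackSndIso f h (Spec.map (CommRingCat.ofHom (φ i)))).hom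
    have hc' : IsPullback m (pullback.snd (pullback.snd f h) (Spec.map (CommRingCat.ofHom (φ i))))
        (pullback.snd f (g i)) (𝟙 _) :=
      IsPullback.of_horiz_isIso ⟨by
        rw [Category.comp_id]
        exact pullbackLeftPullbackSndIso_hom_snd f h (Spec.map (CommRingCat.ofHom (φ i)))⟩
    have hq : m ≫ pullback.fst f (g i) =
        pullback.fst (pullback.snd f h) (Spec.map (CommRingCat.ofHom (φ i))) ≫ pullback.fst f h :=
      pullbackLeftPullbackSndIso_hom_fst f h (Spec.map (CommRingCat.ofHom (φ i)))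
    have hm1 : pullback.fst f (g i) (m x'') = x := by
      change (m ≫ pullback.fst f (g i)) x'' = x
      rw [hq]
      exact (congrArg (fun z => pullback.fst f h z) h1).trans hxO1
    have hm2 : pullback.snd f (g i) (m x'') = IsLocalRing.closedPoint (A i) := by
      have := pullbackLeftPullbackSndIso_hom_snd f h (Spec.map (CommRingCat.ofHom (φ i)))
      change (m ≫ pullback.snd f (g i)) x'' = _
      rw [show m ≫ pullback.snd f (g i) =
        pullback.snd (pullback.snd f h) (Spec.map (CommRingCat.ofHom (φ i))) from this]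
      exact h2
    have h3 := isFlatOverAt_pullback_of_comp (pullback.snd f (g i))
      (pullback.snd (pullback.snd f h) (Spec.map (CommRingCat.ofHom (φ i)))) m (𝟙 _) hc'
      (pullback.fst f (g i)) _ hq F x'' (hflat i (m x'') hm1 hm2)
    exact Groth.Agent.Lib.Helper29.Rc.isFlatOverAt_of_iso _
      ((Scheme.Modules.pullbackComp
        (pullback.fst (pullback.snd f h) (Spec.map (CommRingCat.ofHom (φ i))))
        (pullback.fst f h)).symm.app F) x'' h3
  have hfin := Groth.Agent.Lib.Helper22.FlatBC.isFlatOverAt_of_pullback f (pullback.snd f h)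
    (pullback.fst f h) h (IsPullback.of_hasPullback f h) F hF.1 xO
    (flat_stalkMap_fromSpecStalk (f x) _ hxO2) key
  rwa [hxO1] at hfin

end Groth.Agent.Lib.Helper55.FamFlat
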