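import Mathlib

/-!
# Krull/Nakayama step for the family flatness criterion (S4856)

`mem_maximalIdeal_of_family`: Nakayama-variant proof (helper55 backup of the step also being
written by helper77).
-/

set_option autoImplicit false
set_option linter.style.haveILetI false
universe u
open TensorProduct
open scoped Pointwise

namespace Groth.Agent.Lib.Helper55.FamFlat


/-- abstract Nakayama step -/
theorem apply_eq_zero_of_sub_smul_mem
    {B : Type u} [CommRing B] [IsNoetherianRing B] (𝔭 : Ideal B) [𝔭.IsPrime]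
    {B' : Type u} [CommRing B'] [Algebra B B']
    {N : Type u} [AddCommGroup N] [Module B' N] [Module B N] [IsScalarTower B B' N]
    {Q₀ : Type u} [AddCommGroup Q₀] [Module B Q₀] [Module.Finite B Q₀]
    (U : Submodule B' N) (z : N) (σ : B) (hσ : σ ∉ 𝔭) (π : B')
    (hπ : π ∈ 𝔭.map (algebraMap B B'))
    (hz : (algebraMap B B' σ - π) • z ∈ U)
    (ϑ : N →ₗ[B] LocalizedModule 𝔭.primeCompl Q₀) (hϑ : ∀ n ∈ U, ϑ n = 0) : ϑ z = 0 := by
  let R := Localization.AtPrime 𝔭
  let Q := LocalizedModule 𝔭.primeCompl Q₀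
  let W : Submodule R Q := Submodule.span R
    {q | ∃ ϑ' : N →ₗ[B] Q, (∀ n ∈ U, ϑ' n = 0) ∧ ϑ' z = q}
  haveI : Module.Finite R Q := Module.Finite.of_isLocalizedModule 𝔭.primeCompl
    (LocalizedModule.mkLinearMap 𝔭.primeCompl Q₀)
  haveI : IsNoetherian R Q := isNoetherian_of_isNoetherianRing_of_finite R Q
  have hWfg : W.FG := IsNoetherian.noetherian W
  -- key: x ∈ 𝔭B' ⇒ ϑ'(x • z) ∈ 𝔪_R • W
  have key : ∀ x ∈ 𝔭.map (algebraMap B B'), ∀ ϑ' : N →ₗ[B] Q, (∀ n ∈ U, ϑ' n = 0) →
      ϑ' (x • z) ∈ IsLocalRing.maximalIdeal R • W := by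
    intro x hx
    unfold Ideal.map at hx
    induction hx using Submodule.span_induction with
    | mem y hy =>
      intro ϑ' hϑ'
      obtain ⟨p, hp, rfl⟩ := hy
      rw [algebraMap_smul, map_smul, ← algebraMap_smul R p (ϑ' z)]
      refine Submodule.smul_mem_smul ?_ (Submodule.subset_span ⟨ϑ', hϑ', rfl⟩)
      exact (IsLocalization.AtPrime.to_map_mem_maximal_iff R 𝔭 p).mpr hp
    | zero =>
      intro ϑ' _
      rw [zero_smul, map_zero]
      exact Submodule.zero_mem _
    | add y y' _ _ hy hy' =>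
      intro ϑ' hϑ'
      rw [add_smul, map_add]
      exact Submodule.add_mem _ (hy ϑ' hϑ') (hy' ϑ' hϑ')
    | smul r y _ hy =>
      intro ϑ' hϑ'
      let ψ : N →ₗ[B] N := (LinearMap.lsmul B' N r).restrictScalars B
      have h1 := hy (ϑ' ∘ₗ ψ) (fun n hn => hϑ' _ (U.smul_mem r hn))
      have h2 : (ϑ' ∘ₗ ψ) (y • z) = ϑ' ((r • y) • z) := by
        change ϑ' (r • (y • z)) = _
        rw [smul_smul, smul_eq_mul]
      rw [h2] at h1
      exact h1
  have hle : W ≤ IsLocalRing.maximalIdeal R • W := by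
    refine Submodule.span_le.mpr ?_
    rintro q ⟨ϑ', hϑ', rfl⟩
    have h1 : σ • ϑ' z ∈ IsLocalRing.maximalIdeal R • W := by
      have h2 : σ • z = (algebraMap B B' σ - π) • z + π • z := by
        rw [← add_smul, sub_add_cancel, algebraMap_smul]
      rw [← map_smul, h2, map_add, hϑ' _ hz, zero_add]
      exact key π hπ ϑ' hϑ'
    have hu : IsUnit (algebraMap B R σ) :=
      IsLocalization.map_units R (⟨σ, hσ⟩ : 𝔭.primeCompl)
    obtain ⟨v, hv⟩ := hu
    have h3 : ϑ' z = (↑v⁻¹ : R) • (σ • ϑ' z) := by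
      rw [← algebraMap_smul R σ (ϑ' z), ← hv, smul_smul, Units.inv_mul, one_smul]
    rw [SetLike.mem_coe, h3]
    exact Submodule.smul_mem _ _ h1
  have hbot : W = ⊥ := Submodule.eq_bot_of_le_smul_of_le_jacobson_bot _ W hWfg hle
    (by rw [IsLocalRing.jacobson_eq_maximalIdeal ⊥ bot_ne_top])
  have hmem : ϑ z ∈ W := Submodule.subset_span ⟨ϑ, hϑ, rfl⟩
  rw [hbot] at hmem
  exact (Submodule.mem_bot R).mp hmem



/-- `I • ⊤` (over `R₀`) is stable under the bigger ring. -/
theorem smul_mem_smul_top_of_tower {R₀ R : Type u} [CommRing R₀] [CommRing R] [Algebra R₀ R]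
    {N : Type u} [AddCommGroup N] [Module R N] [Module R₀ N] [IsScalarTower R₀ R N]
    (I : Ideal R₀) (r : R) {n : N} (hn : n ∈ I • (⊤ : Submodule R₀ N)) :
    r • n ∈ I • (⊤ : Submodule R₀ N) := by
  refine Submodule.smul_induction_on hn ?_ ?_
  · intro a ha n _
    rw [smul_comm]
    exact Submodule.smul_mem_smul ha Submodule.mem_top
  · intro x y hx hy
    rw [smul_add]
    exact Submodule.add_mem _ hx hy

/-- `I • ⊤` as a submodule over the bigger ring -/
def smulTopSubmodule {R₀ : Type u} (R : Type u) [CommRing R₀] [CommRing R] [Algebra R₀ R]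
    (N : Type u) [AddCommGroup N] [Module R N] [Module R₀ N] [IsScalarTower R₀ R N]
    (I : Ideal R₀) : Submodule R N :=
  { carrier := ((I • (⊤ : Submodule R₀ N) : Submodule R₀ N) : Set N)
    add_mem' := fun ha hb => Submodule.add_mem _ ha hb
    zero_mem' := Submodule.zero_mem _
    smul_mem' := fun c _ hx => smul_mem_smul_top_of_tower I c hx }

theorem mem_smulTopSubmodule {R₀ R : Type u} [CommRing R₀] [CommRing R] [Algebra R₀ R]
    {N : Type u} [AddCommGroup N] [Module R N] [Module R₀ N] [IsScalarTower R₀ R N]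
    (I : Ideal R₀) (n : N) :
    n ∈ smulTopSubmodule R N I ↔ n ∈ I • (⊤ : Submodule R₀ N) := Iff.rfl

/-- clearing denominators in `I • ⊤` of a localized module -/
theorem exists_smul_eq_mk_of_mem_smul_top {R₀ R : Type u} [CommRing R₀] [CommRing R] [Algebra R₀ R]
    (S : Submonoid R)
    {N : Type u} [AddCommGroup N] [Module R N] [Module R₀ N] [IsScalarTower R₀ R N]
    (I : Ideal R₀) {y : LocalizedModule S N}
    (hy : y ∈ I • (⊤ : Submodule R₀ (LocalizedModule S N))) :
    ∃ t ∈ S, ∃ n ∈ I • (⊤ : Submodule R₀ N), t • y = LocalizedModule.mk n 1 := by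
  refine Submodule.smul_induction_on hy ?_ ?_
  · intro a ha w _
    induction w using LocalizedModule.induction_on with
    | h n s =>
      refine ⟨s, s.2, a • n, Submodule.smul_mem_smul ha Submodule.mem_top, ?_⟩
      rw [LocalizedModule.smul'_mk, LocalizedModule.smul'_mk, LocalizedModule.mk_eq]
      refine ⟨1, ?_⟩
      simp only [one_smul]
      rfl
  · intro x y hx hy
    obtain ⟨t1, ht1, n1, hn1, h1⟩ := hx
    obtain ⟨t2, ht2, n2, hn2, h2⟩ := hy
    refine ⟨t1 * t2, S.mul_mem ht1 ht2, t2 • n1 + t1 • n2,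
      Submodule.add_mem _ (smul_mem_smul_top_of_tower I t2 hn1)
        (smul_mem_smul_top_of_tower I t1 hn2), ?_⟩
    rw [smul_add, mul_comm t1 t2, mul_smul, h1, mul_comm t2 t1, mul_smul, h2,
      LocalizedModule.smul'_mk, LocalizedModule.smul'_mk, LocalizedModule.mk_add_mk]
    simp

theorem exists_smul_mem_of_mk_mem {R₀ R : Type u} [CommRing R₀] [CommRing R] [Algebra R₀ R]
    (S : Submonoid R)
    {N : Type u} [AddCommGroup N] [Module R N] [Module R₀ N] [IsScalarTower R₀ R N]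
    (I : Ideal R₀) (z : N)
    (h : LocalizedModule.mkLinearMap S N z ∈ I • (⊤ : Submodule R₀ (LocalizedModule S N))) :
    ∃ t ∈ S, t • z ∈ I • (⊤ : Submodule R₀ N) := by
  obtain ⟨t, ht, n, hn, h1⟩ := exists_smul_eq_mk_of_mem_smul_top S I h
  rw [LocalizedModule.mkLinearMap_apply, LocalizedModule.smul'_mk, LocalizedModule.mk_eq] at h1
  obtain ⟨u, hu⟩ := h1
  simp only [one_smul] at hu
  refine ⟨u * t, S.mul_mem u.2 ht, ?_⟩
  rw [mul_smul]
  have : (u : R) • t • z = (u : R) • n := hu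
  rw [this]
  exact smul_mem_smul_top_of_tower I _ hn

/-- prime avoidance step -/
theorem exists_sub_smul_mem
    {A' B B' : Type u} [CommRing A'] [IsLocalRing A'] [CommRing B] [CommRing B'] [Algebra A' B']
    [Algebra B B'] (𝔭 : Ideal B) [𝔭.IsPrime]
    {N : Type u} [AddCommGroup N] [Module B' N] [Module A' N] [IsScalarTower A' B' N]
    (z : N)
    (hb : ∀ (𝔮 : Ideal B') [𝔮.IsPrime], 𝔮.comap (algebraMap B B') = 𝔭 →
      𝔮.comap (algebraMap A' B') = IsLocalRing.maximalIdeal A' →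
      LocalizedModule.mkLinearMap 𝔮.primeCompl N z ∈
        IsLocalRing.maximalIdeal A' • (⊤ : Submodule A' (LocalizedModule 𝔮.primeCompl N))) :
    ∃ σ ∈ 𝔭.primeCompl, ∃ π ∈ 𝔭.map (algebraMap B B'),
      (algebraMap B B' σ - π) • z ∈ IsLocalRing.maximalIdeal A' • (⊤ : Submodule A' N) := by
  classical
  let K : Ideal B' :=
    { carrier := {t | t • z ∈ IsLocalRing.maximalIdeal A' • (⊤ : Submodule A' N)}
      add_mem' := by
        intro a b ha hb
        change (a + b) • z ∈ IsLocalRing.maximalIdeal A' • (⊤ : Submodule A' N)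
        rw [add_smul]
        exact Submodule.add_mem _ ha hb
      zero_mem' := by
        change (0 : B') • z ∈ IsLocalRing.maximalIdeal A' • (⊤ : Submodule A' N)
        rw [zero_smul]
        exact Submodule.zero_mem _
      smul_mem' := by
        intro c t ht
        change (c • t) • z ∈ IsLocalRing.maximalIdeal A' • (⊤ : Submodule A' N)
        rw [smul_eq_mul, mul_smul]
        exact smul_mem_smul_top_of_tower _ c ht }
  have hK : ∀ t, t ∈ K ↔ t • z ∈ IsLocalRing.maximalIdeal A' • (⊤ : Submodule A' N) :=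
    fun t => Iff.rfl
  let L : Ideal B' := K ⊔ 𝔭.map (algebraMap B B')
  let S : Submonoid B' := 𝔭.primeCompl.map (algebraMap B B')
  by_cases hdis : Disjoint (L : Set B') (S : Set B')
  · exfalso
    obtain ⟨𝔮, h𝔮, hL𝔮, h𝔮S⟩ := Ideal.exists_le_prime_disjoint L S hdis
    haveI := h𝔮
    have h1 : 𝔮.comap (algebraMap B B') = 𝔭 := by
      apply le_antisymm
      · intro σ hσ
        by_contra hσ𝔭
        have : algebraMap B B' σ ∈ (𝔮 : Set B') ∩ S :=
          ⟨hσ, ⟨σ, hσ𝔭, rfl⟩⟩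
        exact (Set.disjoint_iff.mp h𝔮S) this
      · rw [← Ideal.map_le_iff_le_comap]
        exact le_trans le_sup_right hL𝔮
    have h2 : 𝔮.comap (algebraMap A' B') = IsLocalRing.maximalIdeal A' := by
      have hne : 𝔮.comap (algebraMap A' B') ≠ ⊤ := (Ideal.IsPrime.comap _).ne_top
      have hle : IsLocalRing.maximalIdeal A' ≤ 𝔮.comap (algebraMap A' B') := by
        intro a ha
        rw [Ideal.mem_comap]
        apply hL𝔮
        apply Ideal.mem_sup_left
        rw [hK, algebraMap_smul]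
        exact Submodule.smul_mem_smul ha Submodule.mem_top
      exact ((IsLocalRing.maximalIdeal.isMaximal A').eq_of_le hne hle).symm
    obtain ⟨t, ht, htz⟩ := exists_smul_mem_of_mk_mem 𝔮.primeCompl _ z (hb 𝔮 h1 h2)
    exact ht (hL𝔮 (Ideal.mem_sup_left ((hK t).mpr htz)))
  · rw [Set.not_disjoint_iff] at hdis
    obtain ⟨x, hxL, hxS⟩ := hdis
    obtain ⟨σ, hσ, rfl⟩ := hxS
    obtain ⟨κ, hκ, π, hπ, hκπ⟩ := Submodule.mem_sup.mp hxL
    refine ⟨σ, hσ, π, hπ, ?_⟩
    have : algebraMap B B' σ - π = κ := by rw [← hκπ]; ring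
    rw [this]
    exact (hK κ).mp hκ



section Theta

variable {A : Type u} [CommRing A]
  {B : Type u} [CommRing B] [Algebra A B]
  {M : Type u} [AddCommGroup M] [Module B M] [Module A M] [IsScalarTower A B M]
  (𝔭 : Ideal B) [𝔭.IsPrime]
  {A' : Type u} [CommRing A'] [Algebra A A']
  {B' : Type u} [CommRing B'] [Algebra A B'] [Algebra A' B'] [Algebra B B']
  [IsScalarTower A A' B'] [IsScalarTower A B B'] [Algebra.IsPushout A A' B B']
  {k : Type u} [AddCommGroup k] [Module A k]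

/-- the base change datum `B' = B ⊗_A A'` -/
theorem isBaseChange_of_isPushout :
    IsBaseChange B (IsScalarTower.toAlgHom A A' B').toLinearMap :=
  (Algebra.IsPushout.symm (inferInstance : Algebra.IsPushout A A' B B')).out

variable (B') in
/-- the functional map `B' ⊗_B M → (M ⊗_A k)_𝔭` attached to `θ : A' → k` -/
noncomputable def Θ (θ : A' →ₗ[A] k) :
    B' ⊗[B] M →ₗ[B] LocalizedModule 𝔭.primeCompl (M ⊗[A] k) :=
  (LocalizedModule.mkLinearMap 𝔭.primeCompl (M ⊗[A] k)) ∘ₗ
    (TensorProduct.AlgebraTensorModule.lTensor B M θ) ∘ₗ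
    ((isBaseChange_of_isPushout (A := A) (B := B) (A' := A') (B' := B')).tensorEquiv M).toLinearMap ∘ₗ
    (TensorProduct.comm B B' M).toLinearMap

theorem Θ_algebraMap_tmul (θ : A' →ₗ[A] k) (a' : A') (m : M) :
    Θ 𝔭 B' θ ((algebraMap A' B' a') ⊗ₜ[B] m) =
      LocalizedModule.mkLinearMap 𝔭.primeCompl (M ⊗[A] k) (m ⊗ₜ[A] θ a') := by
  unfold Θ
  simp only [LinearMap.comp_apply, LinearEquiv.coe_coe, TensorProduct.comm_tmul]
  congr 1
  unfold IsBaseChange.tensorEquiv
  rw [LinearEquiv.trans_apply, LinearEquiv.lTensor_tmul]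
  have h1 : (isBaseChange_of_isPushout (A := A) (B := B) (A' := A') (B' := B')).equiv.symm
      (algebraMap A' B' a') = (1 : B) ⊗ₜ[A] a' :=
    (isBaseChange_of_isPushout (A := A) (B := B) (A' := A') (B' := B')).equiv_symm_apply a'
  rw [h1, TensorProduct.AlgebraTensorModule.cancelBaseChange_tmul, one_smul,
    TensorProduct.AlgebraTensorModule.lTensor_tmul]

theorem Θ_smul_eq_zero (θ : A' →ₗ[A] k) (a' : A') (ha' : ∀ x : A', θ (a' * x) = 0)
    (n : B' ⊗[B] M) : Θ 𝔭 B' θ (a' • n) = 0 := by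
  induction n using TensorProduct.induction_on with
  | zero => rw [smul_zero, map_zero]
  | tmul β m =>
    rw [TensorProduct.smul_tmul']
    refine (isBaseChange_of_isPushout (A := A) (B := B) (A' := A') (B' := B')).inductionOn β
      (fun β => Θ 𝔭 B' θ ((a' • β) ⊗ₜ[B] m) = 0) ?_ ?_ ?_ ?_
    · rw [smul_zero, TensorProduct.zero_tmul, map_zero]
    · intro a''
      have h1 : a' • (IsScalarTower.toAlgHom A A' B').toLinearMap a'' =
          algebraMap A' B' (a' * a'') := by
        rw [AlgHom.toLinearMap_apply, IsScalarTower.coe_toAlgHom', Algebra.smul_def, map_mul]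
      rw [h1, Θ_algebraMap_tmul, ha', TensorProduct.tmul_zero, map_zero]
    · intro b β hβ
      have h1 : a' • (b • β) = b • (a' • β) := by
        rw [Algebra.smul_def, Algebra.smul_def, Algebra.smul_def, Algebra.smul_def]
        ring
      rw [h1, ← TensorProduct.smul_tmul', map_smul, hβ, smul_zero]
    · intro β₁ β₂ h1 h2
      rw [smul_add, TensorProduct.add_tmul, map_add, h1, h2, add_zero]
  | add x y hx hy => rw [smul_add, map_add, hx, hy, add_zero]

theorem Θ_eq_zero_of_mem (θ : A' →ₗ[A] k) (I' : Ideal A') (hθ : ∀ a' ∈ I', θ a' = 0)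
    (n : B' ⊗[B] M) (hn : n ∈ I' • (⊤ : Submodule A' (B' ⊗[B] M))) : Θ 𝔭 B' θ n = 0 := by
  refine Submodule.smul_induction_on (p := fun n => Θ 𝔭 B' θ n = 0) hn ?_ ?_
  · intro a' ha' n _
    exact Θ_smul_eq_zero 𝔭 θ a' (fun x => hθ _ (Ideal.mul_mem_right x _ ha')) n
  · intro x y hx hy
    rw [map_add, hx, hy, add_zero]

theorem Θ_sum {J : Type u} (θ : A' →ₗ[A] k) (s : Finset J) (b : J → A') (m : J → M) :
    Θ 𝔭 B' θ (∑ j ∈ s, b j • ((1 : B') ⊗ₜ[B] m j)) =
      LocalizedModule.mkLinearMap 𝔭.primeCompl (M ⊗[A] k) (∑ j ∈ s, (m j ⊗ₜ[A] θ (b j))) := by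
  rw [map_sum, map_sum]
  refine Finset.sum_congr rfl (fun j _ => ?_)
  rw [TensorProduct.smul_tmul', ← Algebra.algebraMap_eq_smul_one, Θ_algebraMap_tmul]

end Theta



theorem exists_functional {A A' : Type u} [CommRing A] [IsLocalRing A] [CommRing A']
    [IsLocalRing A'] [Algebra A A'] [IsLocalHom (algebraMap A A')] (b : A')
    (hb : b ∉ IsLocalRing.maximalIdeal A') :
    ∃ θ : A' →ₗ[A] IsLocalRing.ResidueField A,
      θ b ≠ 0 ∧ ∀ a' ∈ IsLocalRing.maximalIdeal A', θ a' = 0 := by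
  have hne : IsLocalRing.residue A' b ≠ 0 := by
    rwa [Ne, IsLocalRing.residue_eq_zero_iff]
  obtain ⟨φ, hφ⟩ := Module.Projective.exists_dual_ne_zero (IsLocalRing.ResidueField A) hne
  let r : A' →ₗ[A] IsLocalRing.ResidueField A' :=
    (IsScalarTower.toAlgHom A A' (IsLocalRing.ResidueField A')).toLinearMap
  refine ⟨(φ.restrictScalars A) ∘ₗ r, ?_, ?_⟩
  · exact hφ
  · intro a' ha'
    have : r a' = 0 := (IsLocalRing.residue_eq_zero_iff a').mpr ha'
    rw [LinearMap.comp_apply, this, map_zero]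

theorem mem_smul_top_of_tmul_one_eq_zero {A : Type u} [CommRing A] [IsLocalRing A]
    {M : Type u} [AddCommGroup M] [Module A M] (x : M)
    (hx : x ⊗ₜ[A] (1 : IsLocalRing.ResidueField A) = 0) :
    x ∈ IsLocalRing.maximalIdeal A • (⊤ : Submodule A M) := by
  have h1 := (congrArg (TensorProduct.tensorQuotEquivQuotSMul M (IsLocalRing.maximalIdeal A)) hx).trans
    (map_zero (TensorProduct.tensorQuotEquivQuotSMul M (IsLocalRing.maximalIdeal A)))
  have h2 : TensorProduct.tensorQuotEquivQuotSMul M (IsLocalRing.maximalIdeal A)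
      (x ⊗ₜ[A] (1 : IsLocalRing.ResidueField A)) = Submodule.Quotient.mk ((1 : A) • x) :=
    TensorProduct.tensorQuotEquivQuotSMul_tmul_mk (IsLocalRing.maximalIdeal A) x 1
  have h3 : (Submodule.Quotient.mk ((1 : A) • x) :
      M ⧸ (IsLocalRing.maximalIdeal A • (⊤ : Submodule A M))) = 0 := h2.symm.trans h1
  rw [one_smul, Submodule.Quotient.mk_eq_zero] at h3
  exact h3


section Main

/-- `T • y ∈ 𝔪 • ⊤` in `M_𝔭` with `T ∉ 𝔭` implies `y ∈ 𝔪 • ⊤`. -/
theorem mem_smul_top_of_smul_mem' {A : Type u} [CommRing A] [IsLocalRing A]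
    {B : Type u} [CommRing B] [Algebra A B]
    {M : Type u} [AddCommGroup M] [Module B M] [Module A M] [IsScalarTower A B M]
    (𝔭 : Ideal B) [𝔭.IsPrime] (T : B) (hT : T ∈ 𝔭.primeCompl)
    (y : LocalizedModule 𝔭.primeCompl M)
    (h : T • y ∈ IsLocalRing.maximalIdeal A • (⊤ : Submodule A (LocalizedModule 𝔭.primeCompl M))) :
    y ∈ IsLocalRing.maximalIdeal A • (⊤ : Submodule A (LocalizedModule 𝔭.primeCompl M)) := by
  have hbij : Function.Bijective
      (DistribSMul.toLinearMap A (LocalizedModule 𝔭.primeCompl M) T) := by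
    have hu := IsLocalizedModule.map_units (LocalizedModule.mkLinearMap 𝔭.primeCompl M) ⟨T, hT⟩
    rw [Module.End.isUnit_iff] at hu
    exact hu
  have hmap : Submodule.map (DistribSMul.toLinearMap A (LocalizedModule 𝔭.primeCompl M) T)
      (IsLocalRing.maximalIdeal A • (⊤ : Submodule A (LocalizedModule 𝔭.primeCompl M))) =
      IsLocalRing.maximalIdeal A • (⊤ : Submodule A (LocalizedModule 𝔭.primeCompl M)) := by
    rw [Submodule.map_smul'', Submodule.map_top, LinearMap.range_eq_top.2 hbij.2]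
  rw [← hmap] at h
  obtain ⟨y', hy', hyy⟩ := h
  have : y' = y := hbij.1 hyy
  rwa [← this]

theorem finite_tensor_residueField {A : Type u} [CommRing A] [IsLocalRing A]
    {B : Type u} [CommRing B] [Algebra A B]
    {M : Type u} [AddCommGroup M] [Module B M] [Module A M] [IsScalarTower A B M]
    [Module.Finite B M] : Module.Finite B (M ⊗[A] IsLocalRing.ResidueField A) := by
    refine Module.Finite.of_surjective
      ((TensorProduct.AlgebraTensorModule.mk A B M (IsLocalRing.ResidueField A)).flip 1) ?_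
    intro y
    induction y using TensorProduct.induction_on with
    | zero => exact ⟨0, map_zero _⟩
    | tmul x c =>
      obtain ⟨c, rfl⟩ := IsLocalRing.residue_surjective c
      refine ⟨c • x, ?_⟩
      change (c • x) ⊗ₜ[A] (1 : IsLocalRing.ResidueField A) = x ⊗ₜ[A] IsLocalRing.residue A c
      rw [TensorProduct.smul_tmul, Algebra.smul_def, mul_one]
      rfl
    | add y₁ y₂ h₁ h₂ =>
      obtain ⟨x₁, rfl⟩ := h₁
      obtain ⟨x₂, rfl⟩ := h₂
      exact ⟨x₁ + x₂, map_add _ _ _⟩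

/-- Krull step (JI'). -/
theorem mem_maximalIdeal_of_family
    {A : Type u} [CommRing A] [IsLocalRing A]
    {B : Type u} [CommRing B] [Algebra A B] [IsNoetherianRing B]
    {M : Type u} [AddCommGroup M] [Module B M] [Module A M] [IsScalarTower A B M] [Module.Finite B M]
    (𝔭 : Ideal B) [𝔭.IsPrime]
    {A' : Type u} [CommRing A'] [IsLocalRing A'] [Algebra A A']
    [IsLocalHom (algebraMap A A')]
    {B' : Type u} [CommRing B'] [Algebra A B'] [Algebra A' B'] [Algebra B B']
    [IsScalarTower A A' B'] [IsScalarTower A B B'] [Algebra.IsPushout A A' B B']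
    {J : Type u} (s : Finset J) (m : J → M)
    (hind : ∀ c : J → A,
      (∑ j ∈ s, c j • LocalizedModule.mkLinearMap 𝔭.primeCompl M (m j)) ∈
        IsLocalRing.maximalIdeal A • (⊤ : Submodule A (LocalizedModule 𝔭.primeCompl M)) →
      ∀ j ∈ s, c j ∈ IsLocalRing.maximalIdeal A)
    (b : J → A')
    (hb : ∀ (𝔮 : Ideal B') [𝔮.IsPrime], 𝔮.comap (algebraMap B B') = 𝔭 →
      𝔮.comap (algebraMap A' B') = IsLocalRing.maximalIdeal A' →
      LocalizedModule.mkLinearMap 𝔮.primeCompl (B' ⊗[B] M) (∑ j ∈ s, b j • ((1 : B') ⊗ₜ[B] m j)) ∈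
        IsLocalRing.maximalIdeal A' • (⊤ : Submodule A' (LocalizedModule 𝔮.primeCompl (B' ⊗[B] M)))) :
    ∀ j ∈ s, b j ∈ IsLocalRing.maximalIdeal A' := by
  classical
  intro j0 hj0
  by_contra hbj0
  obtain ⟨θ, hθ0, hθ⟩ := exists_functional (A := A) (b j0) hbj0
  obtain ⟨z, hz⟩ : ∃ z : B' ⊗[B] M, z = ∑ j ∈ s, b j • ((1 : B') ⊗ₜ[B] m j) := ⟨_, rfl⟩
  obtain ⟨σ, hσ, π, hπ, hσπ⟩ := exists_sub_smul_mem (A' := A') 𝔭 z
    (fun 𝔮 _ h1 h2 => by rw [hz]; exact hb 𝔮 h1 h2)
  haveI : Module.Finite B (M ⊗[A] IsLocalRing.ResidueField A) := finite_tensor_residueField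
  have hΘz : Θ 𝔭 B' θ z = 0 :=
    apply_eq_zero_of_sub_smul_mem 𝔭
      (smulTopSubmodule B' (B' ⊗[B] M) (IsLocalRing.maximalIdeal A')) z σ hσ π hπ
      ((mem_smulTopSubmodule _ _).mpr hσπ) (Θ 𝔭 B' θ)
      (fun n hn => Θ_eq_zero_of_mem 𝔭 θ _ hθ n ((mem_smulTopSubmodule _ _).mp hn))
  rw [hz, Θ_sum] at hΘz
  have hc : ∀ j, ∃ c : A, IsLocalRing.residue A c = θ (b j) :=
    fun j => IsLocalRing.residue_surjective _
  choose c hc using hc
  have h1 : ∑ j ∈ s, (m j ⊗ₜ[A] θ (b j)) =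
      (∑ j ∈ s, c j • m j) ⊗ₜ[A] (1 : IsLocalRing.ResidueField A) := by
    rw [TensorProduct.sum_tmul]
    refine Finset.sum_congr rfl (fun j _ => ?_)
    rw [← hc j, TensorProduct.smul_tmul, Algebra.smul_def, mul_one]
    rfl
  rw [h1] at hΘz
  obtain ⟨t, ht⟩ := (IsLocalizedModule.eq_zero_iff 𝔭.primeCompl
    (LocalizedModule.mkLinearMap 𝔭.primeCompl (M ⊗[A] IsLocalRing.ResidueField A))).mp hΘz
  rw [Submonoid.smul_def, TensorProduct.smul_tmul'] at ht
  have h2 := mem_smul_top_of_tmul_one_eq_zero _ ht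
  have h3 : (∑ j ∈ s, c j • LocalizedModule.mkLinearMap 𝔭.primeCompl M (m j)) ∈
      IsLocalRing.maximalIdeal A • (⊤ : Submodule A (LocalizedModule 𝔭.primeCompl M)) := by
    apply mem_smul_top_of_smul_mem' 𝔭 (t : B) t.2
    have h4 : (t : B) • ∑ j ∈ s, c j • LocalizedModule.mkLinearMap 𝔭.primeCompl M (m j) =
        ((LocalizedModule.mkLinearMap 𝔭.primeCompl M).restrictScalars A)
          ((t : B) • ∑ j ∈ s, c j • m j) := by
      rw [LinearMap.restrictScalars_apply, map_smul, map_sum]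
      congr 1
      refine Finset.sum_congr rfl (fun j _ => ?_)
      rw [LinearMap.map_smul_of_tower]
    rw [h4]
    have h5 := Submodule.mem_map_of_mem
      (f := (LocalizedModule.mkLinearMap 𝔭.primeCompl M).restrictScalars A) h2
    rw [Submodule.map_smul''] at h5
    exact Submodule.smul_mono le_rfl le_top h5
  have h6 := hind c h3 j0 hj0
  apply hθ0
  rw [← hc j0]
  exact (IsLocalRing.residue_eq_zero_iff _).mpr h6

end Main

end Groth.Agent.Lib.Helper55.FamFlat
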