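import Groth.Agent.Lib.Helper6.NilpNakayama
import Groth.Agent.Lib.Helper77.FamIndep
import Groth.Agent.Lib.Helper55.FamFlat.Krull
import Mathlib

set_option autoImplicit false
set_option linter.style.haveILetI false
universe u
open TensorProduct
open scoped Pointwise

namespace Groth.Agent.Lib.Helper55.FamFlat

/-- a ring hom out of a local ring with nilpotent maximal ideal into a local ring is local -/
theorem isLocalHom_of_isNilpotent {A A' : Type u} [CommRing A] [IsLocalRing A] [CommRing A']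
    [IsLocalRing A'] (hA : IsNilpotent (IsLocalRing.maximalIdeal A)) (φ : A →+* A') :
    IsLocalHom φ := by
  refine ⟨fun a ha => ?_⟩
  by_contra hna
  have hmem : a ∈ IsLocalRing.maximalIdeal A := (IsLocalRing.mem_maximalIdeal a).2 hna
  obtain ⟨n, hn⟩ := hA
  have h0 : a ^ n = 0 := by
    have : a ^ n ∈ IsLocalRing.maximalIdeal A ^ n := Ideal.pow_mem_pow hmem n
    rw [hn] at this
    exact this
  have h1 : IsUnit (φ a ^ n) := ha.pow n
  rw [← map_pow, h0, map_zero] at h1
  exact not_isUnit_zero h1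


section Single

variable {A : Type u} [CommRing A] [IsLocalRing A]
  {B : Type u} [CommRing B] [Algebra A B] [IsNoetherianRing B]
  {M : Type u} [AddCommGroup M] [Module B M] [Module A M] [IsScalarTower A B M] [Module.Finite B M]
  (𝔭 : Ideal B) [𝔭.IsPrime]

local notation "Q" => LocalizedModule 𝔭.primeCompl M
local notation "k" => IsLocalRing.ResidueField A

omit [IsNoetherianRing B] [Module.Finite B M] in
theorem one_tmul_sum_smul {J : Type u} (s : Finset J) (v : J → Q) (c : J → A) :
    (1 : k) ⊗ₜ[A] (∑ j ∈ s, c j • v j) = ∑ j ∈ s, IsLocalRing.residue A (c j) • ((1 : k) ⊗ₜ[A] v j) := by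
  rw [TensorProduct.tmul_sum]
  refine Finset.sum_congr rfl fun j _ => ?_
  rw [TensorProduct.tmul_smul, TensorProduct.smul_tmul', Algebra.smul_def, mul_one,
    TensorProduct.smul_tmul', smul_eq_mul, mul_one]
  rfl


omit [IsNoetherianRing B] [Module.Finite B M] in
theorem mem_smul_top_of_smul_mem (T : B) (hT : T ∈ 𝔭.primeCompl) (y : Q)
    (h : T • y ∈ IsLocalRing.maximalIdeal A • (⊤ : Submodule A Q)) :
    y ∈ IsLocalRing.maximalIdeal A • (⊤ : Submodule A Q) := by
  have hbij : Function.Bijective (DistribSMul.toLinearMap A Q T) := by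
    have hu := IsLocalizedModule.map_units (LocalizedModule.mkLinearMap 𝔭.primeCompl M) ⟨T, hT⟩
    rw [Module.End.isUnit_iff] at hu
    exact hu
  have hmap : Submodule.map (DistribSMul.toLinearMap A Q T)
      (IsLocalRing.maximalIdeal A • (⊤ : Submodule A Q)) =
      IsLocalRing.maximalIdeal A • (⊤ : Submodule A Q) := by
    rw [Submodule.map_smul'', Submodule.map_top, LinearMap.range_eq_top.2 hbij.2]
  rw [← hmap] at h
  obtain ⟨y', hy', hyy⟩ := h
  have : y' = y := hbij.1 hyy
  rwa [← this]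

omit [IsNoetherianRing B] [Module.Finite B M] in
theorem hind_of_basis {J : Type u} (v : J → Q)
    (hv : LinearIndependent k (fun j => (1 : k) ⊗ₜ[A] v j))
    (s : Finset J) (T : B) (hT : T ∈ 𝔭.primeCompl) (m : J → M)
    (hm : ∀ j ∈ s, LocalizedModule.mkLinearMap 𝔭.primeCompl M (m j) = T • v j)
    (c : J → A)
    (hc : (∑ j ∈ s, c j • LocalizedModule.mkLinearMap 𝔭.primeCompl M (m j)) ∈
        IsLocalRing.maximalIdeal A • (⊤ : Submodule A Q)) :
    ∀ j ∈ s, c j ∈ IsLocalRing.maximalIdeal A := by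
  have h1 : ∑ j ∈ s, c j • LocalizedModule.mkLinearMap 𝔭.primeCompl M (m j) =
      T • ∑ j ∈ s, c j • v j := by
    rw [Finset.smul_sum]
    refine Finset.sum_congr rfl fun j hj => ?_
    rw [hm j hj, smul_comm]
  rw [h1] at hc
  have h2 := mem_smul_top_of_smul_mem 𝔭 T hT _ hc
  rw [← LinearMap.ker_tensorProductMk (R := A) (I := IsLocalRing.maximalIdeal A) Q,
    LinearMap.mem_ker] at h2
  have h3 : (1 : k) ⊗ₜ[A] (∑ j ∈ s, c j • v j) = 0 := h2
  rw [one_tmul_sum_smul] at h3
  intro j hj
  have h4 := linearIndependent_iff'.1 hv s (fun j => IsLocalRing.residue A (c j)) h3 j hj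
  exact (IsLocalRing.residue_eq_zero_iff _).1 h4


variable {A' : Type u} [CommRing A'] [IsLocalRing A'] [Algebra A A']
    [IsLocalHom (algebraMap A A')]
    {B' : Type u} [CommRing B'] [Algebra A B'] [Algebra A' B'] [Algebra B B']
    [IsScalarTower A A' B'] [IsScalarTower A B B'] [Algebra.IsPushout A A' B B']

/-- the index type of primes over `(𝔭, 𝔪')` -/
abbrev PrimesOver (A' B' : Type u) [CommRing A'] [IsLocalRing A'] [CommRing B'] [Algebra A' B']
    [Algebra B B'] : Type u :=
  {𝔮 : Ideal B' // 𝔮.IsPrime ∧ 𝔮.comap (algebraMap B B') = 𝔭 ∧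
    𝔮.comap (algebraMap A' B') = IsLocalRing.maximalIdeal A'}

instance (l : PrimesOver 𝔭 A' B') : l.1.IsPrime := l.2.1

theorem algebraMap_eq_zero_of_relation
    (hflat : ∀ (𝔮 : Ideal B') [𝔮.IsPrime], 𝔮.comap (algebraMap B B') = 𝔭 →
        𝔮.comap (algebraMap A' B') = IsLocalRing.maximalIdeal A' →
        Module.Flat A' (LocalizedModule 𝔮.primeCompl (B' ⊗[B] M)))
    {J : Type u} (v : J → Q) (hv : LinearIndependent k (fun j => (1 : k) ⊗ₜ[A] v j))
    (c : J →₀ A) (hc : Finsupp.linearCombination A v c = 0) (j : J) :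
    algebraMap A A' (c j) = 0 := by
  classical
  set s := c.support with hs
  by_cases hj : j ∈ s
  swap
  · rw [Finsupp.notMem_support_iff.1 hj, map_zero]
  -- clear denominators
  have hsur : ∀ j, ∃ x : M × 𝔭.primeCompl,
      x.2 • v j = LocalizedModule.mkLinearMap 𝔭.primeCompl M x.1 :=
    fun j => IsLocalizedModule.surj 𝔭.primeCompl (LocalizedModule.mkLinearMap 𝔭.primeCompl M) (v j)
  choose x hx using hsur
  let T : B := ∏ l ∈ s, ((x l).2 : B)
  have hT : T ∈ 𝔭.primeCompl := Submonoid.prod_mem _ fun l _ => (x l).2.2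
  obtain ⟨m, hm⟩ : ∃ m : J → M,
      ∀ j ∈ s, LocalizedModule.mkLinearMap 𝔭.primeCompl M (m j) = T • v j := by
    refine ⟨fun j => (∏ l ∈ s.erase j, ((x l).2 : B)) • (x j).1, fun j hj => ?_⟩
    change LocalizedModule.mkLinearMap 𝔭.primeCompl M
      ((∏ l ∈ s.erase j, ((x l).2 : B)) • (x j).1) = _
    rw [map_smul, ← hx j, Submonoid.smul_def, smul_smul, Finset.prod_erase_mul _ _ hj]
  -- the relation in M
  have hrelQ : LocalizedModule.mkLinearMap 𝔭.primeCompl M (∑ j ∈ s, c j • m j) = 0 := by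
    rw [map_sum]
    have : ∀ j ∈ s, LocalizedModule.mkLinearMap 𝔭.primeCompl M (c j • m j) = T • (c j • v j) := by
      intro j hj
      rw [← algebraMap_smul B (c j) (m j), map_smul, hm j hj, algebraMap_smul, smul_comm]
    rw [Finset.sum_congr rfl this, ← Finset.smul_sum]
    have h0 : ∑ j ∈ s, c j • v j = 0 := by
      rw [← hc, Finsupp.linearCombination_apply, Finsupp.sum]
    rw [h0, smul_zero]
  obtain ⟨t', ht'⟩ := (IsLocalizedModule.eq_zero_iff 𝔭.primeCompl
    (LocalizedModule.mkLinearMap 𝔭.primeCompl M)).1 hrelQ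
  -- apply the family lemma
  haveI : ∀ l : PrimesOver 𝔭 A' B', Module.Flat A' (LocalizedModule l.1.primeCompl (B' ⊗[B] M)) :=
    fun l => hflat l.1 l.2.2.1 l.2.2.2
  have hmain := Groth.Agent.Lib.Helper77.FamIndep.eq_zero_of_family_flat (A' := A')
    (N := fun l : PrimesOver 𝔭 A' B' => LocalizedModule l.1.primeCompl (B' ⊗[B] M)) s
    (fun j l => LocalizedModule.mkLinearMap l.1.primeCompl (B' ⊗[B] M) ((1 : B') ⊗ₜ[B] m j))
    (fun j => algebraMap A A' (c j)) ?_ ?_
  · exact hmain j hj
  · -- JI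
    intro b hb
    refine mem_maximalIdeal_of_family (B' := B') 𝔭 s m (hind_of_basis 𝔭 v hv s T hT m hm) b ?_
    intro 𝔮 h𝔮 h1 h2
    have := hb ⟨𝔮, h𝔮, h1, h2⟩
    simp only at this
    convert this using 1
    rw [map_sum]
    refine Finset.sum_congr rfl fun j _ => ?_
    rw [← algebraMap_smul B' (b j), map_smul, algebraMap_smul]
  · -- relation
    intro l
    have h1 : ∑ j ∈ s, algebraMap A A' (c j) •
        LocalizedModule.mkLinearMap l.1.primeCompl (B' ⊗[B] M) ((1 : B') ⊗ₜ[B] m j) =
        LocalizedModule.mkLinearMap l.1.primeCompl (B' ⊗[B] M)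
          ((1 : B') ⊗ₜ[B] (∑ j ∈ s, c j • m j)) := by
      rw [TensorProduct.tmul_sum, map_sum]
      refine Finset.sum_congr rfl fun j _ => ?_
      have hsc : algebraMap A B (c j) • (1 : B') = algebraMap A A' (c j) • (1 : B') := by
        rw [algebraMap_smul, algebraMap_smul]
      have e1 : (1 : B') ⊗ₜ[B] (c j • m j) = algebraMap A A' (c j) • ((1 : B') ⊗ₜ[B] m j) := by
        rw [TensorProduct.smul_tmul', ← hsc, ← algebraMap_smul B (c j) (m j),
          TensorProduct.smul_tmul]
      rw [e1, LinearMap.map_smul_of_tower]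
    rw [h1, IsLocalizedModule.eq_zero_iff l.1.primeCompl]
    refine ⟨⟨algebraMap B B' t', ?_⟩, ?_⟩
    · intro hmem
      have : (t' : B) ∈ l.1.comap (algebraMap B B') := hmem
      rw [l.2.2.1] at this
      exact t'.2 this
    · rw [Submonoid.smul_def]
      change algebraMap B B' t' • ((1 : B') ⊗ₜ[B] (∑ j ∈ s, c j • m j)) = 0
      rw [TensorProduct.smul_tmul', smul_eq_mul, mul_one,
        show algebraMap B B' (t' : B) = (t' : B) • (1 : B') by rw [Algebra.smul_def, mul_one],
        TensorProduct.smul_tmul]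
      have h0 : (t' : B) • ∑ j ∈ s, c j • m j = 0 := ht'
      rw [h0, TensorProduct.tmul_zero]

end Single


/-- EGA IV 11.4.9-type ring-level core. -/
theorem flat_localized_of_family
    {A : Type u} [CommRing A] [IsLocalRing A] (hA : IsNilpotent (IsLocalRing.maximalIdeal A))
    {B : Type u} [CommRing B] [Algebra A B] [IsNoetherianRing B]
    {M : Type u} [AddCommGroup M] [Module B M] [Module A M] [IsScalarTower A B M] [Module.Finite B M]
    (𝔭 : Ideal B) [𝔭.IsPrime]
    {ι : Type u} (A' : ι → Type u) [∀ i, CommRing (A' i)] [∀ i, IsLocalRing (A' i)]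
    [∀ i, Algebra A (A' i)]
    (hu : ∀ a : A, (∀ i, algebraMap A (A' i) a = 0) → a = 0)
    (B' : ι → Type u) [∀ i, CommRing (B' i)] [∀ i, Algebra A (B' i)] [∀ i, Algebra (A' i) (B' i)]
    [∀ i, Algebra B (B' i)] [∀ i, IsScalarTower A (A' i) (B' i)] [∀ i, IsScalarTower A B (B' i)]
    [∀ i, Algebra.IsPushout A (A' i) B (B' i)]
    (hflat : ∀ (i : ι) (𝔮 : Ideal (B' i)) [𝔮.IsPrime],
        𝔮.comap (algebraMap B (B' i)) = 𝔭 →
        𝔮.comap (algebraMap (A' i) (B' i)) = IsLocalRing.maximalIdeal (A' i) →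
        Module.Flat (A' i) (LocalizedModule 𝔮.primeCompl (B' i ⊗[B] M))) :
    Module.Flat A (LocalizedModule 𝔭.primeCompl M) := by
  classical
  let w := Module.Free.chooseBasis (IsLocalRing.ResidueField A)
    (IsLocalRing.ResidueField A ⊗[A] LocalizedModule 𝔭.primeCompl M)
  have ⟨v, eq⟩ := (TensorProduct.mk_surjective A (LocalizedModule 𝔭.primeCompl M)
    (IsLocalRing.ResidueField A) Ideal.Quotient.mk_surjective).comp_left w
  have hv : ∀ j, (1 : IsLocalRing.ResidueField A) ⊗ₜ[A] v j = w j := fun j => congrFun eq j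
  have hvind : LinearIndependent (IsLocalRing.ResidueField A)
      (fun j => (1 : IsLocalRing.ResidueField A) ⊗ₜ[A] v j) := by
    have : (fun j => (1 : IsLocalRing.ResidueField A) ⊗ₜ[A] v j) = ⇑w := funext hv
    rw [this]
    exact w.linearIndependent
  set i := Finsupp.linearCombination A v with hi
  have hsurj : Function.Surjective i := by
    rw [← LinearMap.range_eq_top, Finsupp.range_linearCombination]
    apply Groth.Agent.Lib.Helper6.NilpNakayama.eq_top_of_sup_smul_top_of_isNilpotent _ hA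
    have hker : LinearMap.ker (TensorProduct.mk A (IsLocalRing.ResidueField A)
        (LocalizedModule 𝔭.primeCompl M) 1) =
        IsLocalRing.maximalIdeal A • (⊤ : Submodule A (LocalizedModule 𝔭.primeCompl M)) :=
      LinearMap.ker_tensorProductMk _
    rw [← hker, ← Submodule.comap_map_eq, Submodule.map_span,
      ← Submodule.restrictScalars_span A (IsLocalRing.ResidueField A)
        Ideal.Quotient.mk_surjective,
      ← Set.range_comp]
    have : (⇑(TensorProduct.mk A (IsLocalRing.ResidueField A)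
        (LocalizedModule 𝔭.primeCompl M) 1) ∘ v) = ⇑w := eq
    rw [this, w.span_eq]
    simp
  have hinj : Function.Injective i := by
    rw [injective_iff_map_eq_zero]
    intro c hc
    ext j
    rw [Finsupp.zero_apply]
    apply hu
    intro i'
    haveI : IsLocalHom (algebraMap A (A' i')) := isLocalHom_of_isNilpotent hA _
    exact algebraMap_eq_zero_of_relation 𝔭 (hflat i') v hvind c hc j
  have hfree : Module.Free A (LocalizedModule 𝔭.primeCompl M) :=
    Module.Free.of_equiv (LinearEquiv.ofBijective i ⟨hinj, hsurj⟩)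
  infer_instance

end Groth.Agent.Lib.Helper55.FamFlat
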