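import Groth.Prelude.Def_FlatMod2
import Groth.Prelude.Def_Coh
import Groth.Agent.Lib.Helper55.FL.ModSchemeOpen
import Groth.Agent.Lib.Lead.PullbackAff6
import Groth.Agent.Lib.Lead.CohAff4
import Groth.Agent.Lib.Helper55.FamFlat.RL

set_option autoImplicit false
set_option linter.style.haveILetI false
set_option linter.unusedSectionVars false
universe u

open AlgebraicGeometry CategoryTheory Limits TopologicalSpace Opposite TensorProduct

namespace Groth.Agent.Lib.Helper55.FamFlat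

open Groth.Agent.Lib.Lead.QCohAff Groth.Agent.Lib.Lead.CohAff Groth.Agent.Lib.Helper55.FL
  Groth.Agent.Lib.Lead.PullbackAff

/-- points of an affine open from primes -/
theorem exists_point_of_prime {X : Scheme.{u}} {W : X.Opens} (hW : IsAffineOpen W)
    (𝔮 : ↥(Spec Γ(X, W))) : ∃ (x : X) (hx : x ∈ W), hW.primeIdealOf ⟨x, hx⟩ = 𝔮 := by
  refine ⟨(hW.isoSpec.inv 𝔮).1, (hW.isoSpec.inv 𝔮).2, ?_⟩
  change hW.isoSpec.hom (hW.isoSpec.inv 𝔮) = 𝔮
  rw [← Scheme.Hom.comp_apply, Iso.inv_hom_id]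
  rfl

theorem primeIdealOf_injective {X : Scheme.{u}} {W : X.Opens} (hW : IsAffineOpen W)
    {x y : X} (hx : x ∈ W) (hy : y ∈ W)
    (h : hW.primeIdealOf ⟨x, hx⟩ = hW.primeIdealOf ⟨y, hy⟩) : x = y := by
  have h1 := hW.fromSpec_primeIdealOf ⟨x, hx⟩
  have h2 := hW.fromSpec_primeIdealOf ⟨y, hy⟩
  rw [h] at h1
  exact h1.symm.trans h2


section SpecLocal

variable (R : Type u) [CommRing R]

/-- `Γ(Spec R, ⊤) ≃+* R`. -/
noncomputable def ΓtopEquiv : Γ(Spec (CommRingCat.of R), ⊤) ≃+* R :=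
  (Scheme.ΓSpecIso (CommRingCat.of R)).commRingCatIsoToRingEquiv

theorem isLocalRing_Γtop [IsLocalRing R] : IsLocalRing Γ(Spec (CommRingCat.of R), ⊤) :=
  (ΓtopEquiv R).symm.isLocalRing

theorem isNilpotent_maximalIdeal_Γtop [IsLocalRing R] [IsArtinianRing R] :
    haveI := isLocalRing_Γtop R
    IsNilpotent (IsLocalRing.maximalIdeal Γ(Spec (CommRingCat.of R), ⊤)) := by
  haveI := isLocalRing_Γtop R
  have h1 : IsNilpotent (IsLocalRing.maximalIdeal R) := by
    rw [← IsLocalRing.jacobson_eq_maximalIdeal ⊥ bot_ne_top]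
    exact IsArtinianRing.isNilpotent_jacobson_bot
  obtain ⟨n, hn⟩ := h1
  refine ⟨n, ?_⟩
  rw [← IsLocalRing.map_ringEquiv_maximalIdeal (ΓtopEquiv R).symm, ← Ideal.map_pow, hn]
  simp

end SpecLocal


open CategoryTheory.Limits in
theorem isFlatOverAt_of_family {A : Type u} [CommRing A]
    [IsArtinianRing A] [IsLocalRing A] {X : Scheme.{u}} (f : X ⟶ Spec (CommRingCat.of A))
    [LocallyOfFiniteType f] (F : X.Modules) (hF : Coh.IsCoh F) (x : X)
    {ι : Type u} (A' : ι → Type u) [∀ i, CommRing (A' i)] [∀ i, IsLocalRing (A' i)] (u : ∀ i, A →+* A' i)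
    (hu : ∀ a : A, (∀ i, u i a = 0) → a = 0)
    (hflat : ∀ (i : ι) (x' : ↥(pullback f (Spec.map (CommRingCat.ofHom (u i))))),
      pullback.fst f (Spec.map (CommRingCat.ofHom (u i))) x' = x →
      pullback.snd f (Spec.map (CommRingCat.ofHom (u i))) x' = IsLocalRing.closedPoint (A' i) →
      FlatMod.IsFlatOverAt (pullback.snd f (Spec.map (CommRingCat.ofHom (u i))))
        ((Scheme.Modules.pullback (pullback.fst f (Spec.map (CommRingCat.ofHom (u i))))).obj F) x') :
    FlatMod.IsFlatOverAt f F x := by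
  haveI : F.IsQuasicoherent := hF.1
  have hFT := hF.2
  haveI : IsLocallyNoetherian X := LocallyOfFiniteType.isLocallyNoetherian f
  obtain ⟨U, hU, hxU, -⟩ := exists_isAffineOpen_mem_and_subset (U := (⊤ : X.Opens)) (x := x) trivial
  have hV : IsAffineOpen (⊤ : (Spec (CommRingCat.of A)).Opens) := isAffineOpen_top _
  have hUV : U ≤ f ⁻¹ᵁ ⊤ := fun _ _ => trivial
  rw [isFlatOverAt_iff_flat_localizedModule f F hU hV hUV x hxU]
  -- per-index geometric data
  let g : ∀ i, Spec (CommRingCat.of (A' i)) ⟶ Spec (CommRingCat.of A) :=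
    fun i => Spec.map (CommRingCat.ofHom (u i))
  let W : ∀ i, (pullback f (g i)).Opens :=
    fun i => (pullback.fst f (g i)) ⁻¹ᵁ U ⊓ (pullback.snd f (g i)) ⁻¹ᵁ ⊤
  have hc : ∀ i, IsPullback (pullback.fst f (g i)) (pullback.snd f (g i)) f (g i) :=
    fun i => IsPullback.of_hasPullback _ _
  have hV' : ∀ i, IsAffineOpen (⊤ : (Spec (CommRingCat.of (A' i))).Opens) :=
    fun i => isAffineOpen_top _
  have e' : ∀ i, (⊤ : (Spec (CommRingCat.of (A' i))).Opens) ≤ (g i) ⁻¹ᵁ ⊤ :=
    fun i _ _ => trivial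
  have hW : ∀ i, IsAffineOpen (W i) := fun i => by
    have : IsAffine (⊤ : (Spec (CommRingCat.of A)).Opens) := hV
    have : IsAffine (⊤ : (Spec (CommRingCat.of (A' i))).Opens) := hV' i
    have : IsAffine U := hU
    exact .of_isIso (Scheme.Hom.isPullback_resLE (hc i) (e' i) hUV rfl).isoPullback.hom
  have hpush := fun i => (isIso_pushoutSection_iff (hc i) (e' i) hUV rfl).mp
    (isIso_pushoutSection_of_isAffineOpen (hc i) (e' i) hUV rfl hV (hV' i) hU)
  -- ring-level instances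
  haveI locA : IsLocalRing Γ(Spec (CommRingCat.of A), ⊤) := isLocalRing_Γtop A
  haveI locA' : ∀ i, IsLocalRing Γ(Spec (CommRingCat.of (A' i)), ⊤) :=
    fun i => isLocalRing_Γtop (A' i)
  letI algAB : Algebra Γ(Spec (CommRingCat.of A), ⊤) Γ(X, U) := (f.appLE ⊤ U hUV).hom.toAlgebra
  letI modAM : Module Γ(Spec (CommRingCat.of A), ⊤) Γ(F, U) :=
    Module.compHom Γ(F, U) (f.appLE ⊤ U hUV).hom
  haveI towM : IsScalarTower Γ(Spec (CommRingCat.of A), ⊤) Γ(X, U) Γ(F, U) :=
    IsScalarTower.of_algebraMap_smul fun _ _ => rfl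
  haveI noeB : IsNoetherianRing Γ(X, U) := IsLocallyNoetherian.component_noetherian ⟨U, hU⟩
  haveI finM : Module.Finite Γ(X, U) Γ(F, U) := finite_sections_of_isFiniteType F hFT hU
  letI algAA' : ∀ i, Algebra Γ(Spec (CommRingCat.of A), ⊤) Γ(Spec (CommRingCat.of (A' i)), ⊤) :=
    fun i => ((g i).appLE ⊤ ⊤ (e' i)).hom.toAlgebra
  letI algBB' : ∀ i, Algebra Γ(X, U) Γ(pullback f (g i), W i) :=
    fun i => ((pullback.fst f (g i)).appLE U (W i) inf_le_left).hom.toAlgebra
  letI algA'B' : ∀ i, Algebra Γ(Spec (CommRingCat.of (A' i)), ⊤) Γ(pullback f (g i), W i) :=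
    fun i => ((pullback.snd f (g i)).appLE ⊤ (W i) inf_le_right).hom.toAlgebra
  letI algAB' : ∀ i, Algebra Γ(Spec (CommRingCat.of A), ⊤) Γ(pullback f (g i), W i) :=
    fun i => ((algebraMap Γ(X, U) Γ(pullback f (g i), W i)).comp
      (algebraMap Γ(Spec (CommRingCat.of A), ⊤) Γ(X, U))).toAlgebra
  haveI t1 : ∀ i, IsScalarTower Γ(Spec (CommRingCat.of A), ⊤) Γ(X, U) Γ(pullback f (g i), W i) :=
    fun i => IsScalarTower.of_algebraMap_eq' rfl
  haveI t2 : ∀ i, IsScalarTower Γ(Spec (CommRingCat.of A), ⊤)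
      Γ(Spec (CommRingCat.of (A' i)), ⊤) Γ(pullback f (g i), W i) :=
    fun i => IsScalarTower.of_algebraMap_eq' (by
      have := congrArg CommRingCat.Hom.hom (hpush i).w
      exact this)
  haveI hP : ∀ i, Algebra.IsPushout Γ(Spec (CommRingCat.of A), ⊤)
      Γ(Spec (CommRingCat.of (A' i)), ⊤) Γ(X, U) Γ(pullback f (g i), W i) := fun i => by
    apply Algebra.IsPushout.symm
    exact CommRingCat.isPushout_iff_isPushout.mp (hpush i)
  refine flat_localized_of_family (A := Γ(Spec (CommRingCat.of A), ⊤))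
    (isNilpotent_maximalIdeal_Γtop A) (B := Γ(X, U)) (M := Γ(F, U))
    (hU.primeIdealOf ⟨x, hxU⟩).asIdeal
    (fun i => Γ(Spec (CommRingCat.of (A' i)), ⊤)) ?_
    (fun i => Γ(pullback f (g i), W i)) ?_
  · intro a ha
    have h0 : (Scheme.ΓSpecIso (CommRingCat.of A)).hom a = 0 := by
      apply hu
      intro i
      have h1 : ((g i).appLE ⊤ ⊤ (e' i)).hom a = 0 := ha i
      have h2 : (g i).appLE ⊤ ⊤ (e' i) = (g i).appTop := Scheme.Hom.appLE_eq_app _
      rw [h2] at h1
      have h3 := congrArg (fun φ => φ.hom a)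
        (Scheme.ΓSpecIso_naturality (CommRingCat.ofHom (u i)))
      simp only [CommRingCat.hom_comp, RingHom.coe_comp, Function.comp_apply,
        CommRingCat.hom_ofHom] at h3
      rw [← h3]
      change (Scheme.ΓSpecIso (CommRingCat.of (A' i))).hom.hom (((g i).appTop).hom a) = 0
      rw [h1, map_zero]
    have h4 := congrArg (Scheme.ΓSpecIso (CommRingCat.of A)).inv.hom h0
    rw [map_zero] at h4
    rw [← h4]
    exact (congrArg (fun φ => φ.hom a) (Scheme.ΓSpecIso (CommRingCat.of A)).hom_inv_id).symm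
  · intro i 𝔮 h𝔮 hB hA'
    obtain ⟨x', hx'W, hprime⟩ := exists_point_of_prime (hW i) ⟨𝔮, h𝔮⟩
    have hq : ((hW i).primeIdealOf ⟨x', hx'W⟩).asIdeal = 𝔮 :=
      congrArg PrimeSpectrum.asIdeal hprime
    have hfst : pullback.fst f (g i) x' = x := by
      have hmem : pullback.fst f (g i) x' ∈ U := hx'W.1
      apply primeIdealOf_injective hU hmem hxU
      rw [← IsAffineOpen.comap_primeIdealOf_appLE U hU (W i) (hW i) inf_le_left hx'W]
      apply PrimeSpectrum.ext
      change Ideal.comap _ ((hW i).primeIdealOf ⟨x', hx'W⟩).asIdeal = _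
      rw [hq]
      exact hB
    have hsnd : pullback.snd f (g i) x' = IsLocalRing.closedPoint (A' i) := by
      have h1 := IsAffineOpen.comap_primeIdealOf_appLE (f := pullback.snd f (g i)) ⊤ (hV' i)
        (W i) (hW i) inf_le_right hx'W
      have h2 : (hV' i).primeIdealOf ⟨pullback.snd f (g i) x', trivial⟩ =
          IsLocalRing.closedPoint Γ(Spec (CommRingCat.of (A' i)), ⊤) := by
        rw [← h1]
        apply PrimeSpectrum.ext
        change Ideal.comap _ ((hW i).primeIdealOf ⟨x', hx'W⟩).asIdeal = _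
        rw [hq]
        exact hA'
      have h3 := (hV' i).fromSpec_primeIdealOf ⟨pullback.snd f (g i) x', trivial⟩
      rw [h2, IsAffineOpen.fromSpec_top, Scheme.isoSpec_Spec_inv] at h3
      refine (show _ = pullback.snd f (g i) x' from h3).symm.trans ?_
      haveI : IsLocalHom (Scheme.ΓSpecIso (CommRingCat.of (A' i))).inv.hom :=
        isLocalHom_of_isIso _
      exact IsLocalRing.comap_closedPoint _
    have key := hflat i x' hfst hsnd
    haveI qcG : ((Scheme.Modules.pullback (pullback.fst f (g i))).obj F).IsQuasicoherent :=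
      inferInstance
    rw [isFlatOverAt_iff_flat_localizedModule (pullback.snd f (g i)) _ (hW i) (hV' i)
      inf_le_right x' hx'W] at key
    subst hq
    letI modA'G : Module Γ(Spec (CommRingCat.of (A' i)), ⊤)
        Γ((Scheme.Modules.pullback (pullback.fst f (g i))).obj F, W i) :=
      Module.compHom _ ((pullback.snd f (g i)).appLE ⊤ (W i) inf_le_right).hom
    haveI towG : IsScalarTower Γ(Spec (CommRingCat.of (A' i)), ⊤) Γ(pullback f (g i), W i)
        Γ((Scheme.Modules.pullback (pullback.fst f (g i))).obj F, W i) :=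
      IsScalarTower.of_algebraMap_smul fun _ _ => rfl
    let e0 := sectionsPullbackEquiv (pullback.fst f (g i)) F (hW i) hU inf_le_left
    let f1 := LocalizedModule.mkLinearMap
      ((hW i).primeIdealOf ⟨x', hx'W⟩).asIdeal.primeCompl
      (Γ(pullback f (g i), W i) ⊗[Γ(X, U)] Γ(F, U))
    haveI : IsLocalizedModule ((hW i).primeIdealOf ⟨x', hx'W⟩).asIdeal.primeCompl
        (f1 ∘ₗ e0.toLinearMap) := IsLocalizedModule.of_linearEquiv_right _ _ e0
    let e1 := IsLocalizedModule.linearEquiv ((hW i).primeIdealOf ⟨x', hx'W⟩).asIdeal.primeCompl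
      (LocalizedModule.mkLinearMap ((hW i).primeIdealOf ⟨x', hx'W⟩).asIdeal.primeCompl
        Γ((Scheme.Modules.pullback (pullback.fst f (g i))).obj F, W i))
      (f1 ∘ₗ e0.toLinearMap)
    exact Module.Flat.of_linearEquiv (e1.symm.restrictScalars Γ(Spec (CommRingCat.of (A' i)), ⊤))

end Groth.Agent.Lib.Helper55.FamFlat
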