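import Groth.Agent.Lib.Helper55.FamFlat.RL

set_option autoImplicit false
set_option linter.style.haveILetI false
universe u
open TensorProduct
open scoped Pointwise

namespace Groth.Agent.Lib.Helper55.FamFlat

section SingleP

variable {A : Type u} [CommRing A] [IsLocalRing A]
  {B : Type u} [CommRing B] [Algebra A B] [IsNoetherianRing B]
  {M : Type u} [AddCommGroup M] [Module B M] [Module A M] [IsScalarTower A B M] [Module.Finite B M]
  (𝔭 : Ideal B) [𝔭.IsPrime]

local notation "Q" => LocalizedModule 𝔭.primeCompl M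
local notation "k" => IsLocalRing.ResidueField A

variable {A' : Type u} [CommRing A'] [IsLocalRing A'] [Algebra A A']
    [IsLocalHom (algebraMap A A')]
    {B' : Type u} [CommRing B'] [Algebra A B'] [Algebra A' B'] [Algebra B B']
    [IsScalarTower A A' B'] [IsScalarTower A B B'] [Algebra.IsPushout A A' B B']

/-- single-prime version of `algebraMap_eq_zero_of_relation` -/
theorem algebraMap_eq_zero_of_relation_single
    (𝔮₀ : Ideal B') [𝔮₀.IsPrime] (h1 : 𝔮₀.comap (algebraMap B B') = 𝔭)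
    (hflat : Module.Flat A' (LocalizedModule 𝔮₀.primeCompl (B' ⊗[B] M)))
    (hSA : ∀ z : B' ⊗[B] M,
      LocalizedModule.mkLinearMap 𝔮₀.primeCompl (B' ⊗[B] M) z ∈
        IsLocalRing.maximalIdeal A' •
          (⊤ : Submodule A' (LocalizedModule 𝔮₀.primeCompl (B' ⊗[B] M))) →
      ∀ (𝔮 : Ideal B') [𝔮.IsPrime], 𝔮.comap (algebraMap B B') = 𝔭 →
        𝔮.comap (algebraMap A' B') = IsLocalRing.maximalIdeal A' →
        LocalizedModule.mkLinearMap 𝔮.primeCompl (B' ⊗[B] M) z ∈
          IsLocalRing.maximalIdeal A' •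
            (⊤ : Submodule A' (LocalizedModule 𝔮.primeCompl (B' ⊗[B] M))))
    {J : Type u} (v : J → Q) (hv : LinearIndependent k (fun j => (1 : k) ⊗ₜ[A] v j))
    (c : J →₀ A) (hc : Finsupp.linearCombination A v c = 0) (j : J) :
    algebraMap A A' (c j) = 0 := by
  classical
  set s := c.support with hs
  by_cases hj : j ∈ s
  swap
  · rw [Finsupp.notMem_support_iff.1 hj, map_zero]
  have hsur : ∀ j, ∃ x : M × 𝔭.primeCompl,
      x.2 • v j = LocalizedModule.mkLinearMap 𝔭.primeCompl M x.1 :=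
    fun j => IsLocalizedModule.surj 𝔭.primeCompl (LocalizedModule.mkLinearMap 𝔭.primeCompl M) (v j)
  choose x hx using hsur
  let T : B := ∏ l ∈ s, ((x l).2 : B)
  have hT : T ∈ 𝔭.primeCompl := Submonoid.prod_mem _ fun l _ => (x l).2.2
  obtain ⟨m, hm⟩ : ∃ m : J → M,
      ∀ j ∈ s, LocalizedModule.mkLinearMap 𝔭.primeCompl M (m j) = T • v j := by
    refine ⟨fun j => (∏ l ∈ s.erase j, ((x l).2 : B)) • (x j).1, fun j hj => ?_⟩
    change LocalizedModule.mkLinearMap 𝔭.primeCompl M
      ((∏ l ∈ s.erase j, ((x l).2 : B)) • (x j).1) = _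
    rw [map_smul, ← hx j, Submonoid.smul_def, smul_smul, Finset.prod_erase_mul _ _ hj]
  have hrelQ : LocalizedModule.mkLinearMap 𝔭.primeCompl M (∑ j ∈ s, c j • m j) = 0 := by
    rw [map_sum]
    have : ∀ j ∈ s, LocalizedModule.mkLinearMap 𝔭.primeCompl M (c j • m j) = T • (c j • v j) := by
      intro j hj
      rw [← algebraMap_smul B (c j) (m j), map_smul, hm j hj, algebraMap_smul, smul_comm]
    rw [Finset.sum_congr rfl this, ← Finset.smul_sum]
    have h0 : ∑ j ∈ s, c j • v j = 0 := by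
      rw [← hc, Finsupp.linearCombination_apply, Finsupp.sum]
    rw [h0, smul_zero]
  obtain ⟨t', ht'⟩ := (IsLocalizedModule.eq_zero_iff 𝔭.primeCompl
    (LocalizedModule.mkLinearMap 𝔭.primeCompl M)).1 hrelQ
  haveI : ∀ _ : PUnit.{u+1}, Module.Flat A' (LocalizedModule 𝔮₀.primeCompl (B' ⊗[B] M)) :=
    fun _ => hflat
  have hmain := Groth.Agent.Lib.Helper77.FamIndep.eq_zero_of_family_flat (A' := A')
    (N := fun _ : PUnit.{u+1} => LocalizedModule 𝔮₀.primeCompl (B' ⊗[B] M)) s
    (fun j _ => LocalizedModule.mkLinearMap 𝔮₀.primeCompl (B' ⊗[B] M) ((1 : B') ⊗ₜ[B] m j))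
    (fun j => algebraMap A A' (c j)) ?_ ?_
  · exact hmain j hj
  · -- JI
    intro b hb
    refine mem_maximalIdeal_of_family (B' := B') 𝔭 s m (hind_of_basis 𝔭 v hv s T hT m hm) b ?_
    intro 𝔮 h𝔮 h1' h2'
    refine hSA _ ?_ 𝔮 h1' h2'
    have := hb PUnit.unit
    convert this using 1
    rw [map_sum]
    refine Finset.sum_congr rfl fun j _ => ?_
    rw [← algebraMap_smul B' (b j), map_smul, algebraMap_smul]
  · -- relation
    intro _
    have h1e : ∑ j ∈ s, algebraMap A A' (c j) •
        LocalizedModule.mkLinearMap 𝔮₀.primeCompl (B' ⊗[B] M) ((1 : B') ⊗ₜ[B] m j) =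
        LocalizedModule.mkLinearMap 𝔮₀.primeCompl (B' ⊗[B] M)
          ((1 : B') ⊗ₜ[B] (∑ j ∈ s, c j • m j)) := by
      rw [TensorProduct.tmul_sum, map_sum]
      refine Finset.sum_congr rfl fun j _ => ?_
      have hsc : algebraMap A B (c j) • (1 : B') = algebraMap A A' (c j) • (1 : B') := by
        rw [algebraMap_smul, algebraMap_smul]
      have e1 : (1 : B') ⊗ₜ[B] (c j • m j) = algebraMap A A' (c j) • ((1 : B') ⊗ₜ[B] m j) := by
        rw [TensorProduct.smul_tmul', ← hsc, ← algebraMap_smul B (c j) (m j),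
          TensorProduct.smul_tmul]
      rw [e1, LinearMap.map_smul_of_tower]
    rw [h1e, IsLocalizedModule.eq_zero_iff 𝔮₀.primeCompl]
    refine ⟨⟨algebraMap B B' t', ?_⟩, ?_⟩
    · intro hmem
      have : (t' : B) ∈ 𝔮₀.comap (algebraMap B B') := hmem
      rw [h1] at this
      exact t'.2 this
    · rw [Submonoid.smul_def]
      change algebraMap B B' t' • ((1 : B') ⊗ₜ[B] (∑ j ∈ s, c j • m j)) = 0
      rw [TensorProduct.smul_tmul', smul_eq_mul, mul_one,
        show algebraMap B B' (t' : B) = (t' : B) • (1 : B') by rw [Algebra.smul_def, mul_one],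
        TensorProduct.smul_tmul]
      have h0 : (t' : B) • ∑ j ∈ s, c j • m j = 0 := ht'
      rw [h0, TensorProduct.tmul_zero]

end SingleP

/-- EGA IV 11.5-type ring-level core: one prime per member + the single-to-all property. -/
theorem flat_localized_of_family_single
    {A : Type u} [CommRing A] [IsLocalRing A] (hA : IsNilpotent (IsLocalRing.maximalIdeal A))
    {B : Type u} [CommRing B] [Algebra A B] [IsNoetherianRing B]
    {M : Type u} [AddCommGroup M] [Module B M] [Module A M] [IsScalarTower A B M] [Module.Finite B M]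
    (𝔭 : Ideal B) [𝔭.IsPrime]
    {ι : Type u} (A' : ι → Type u) [∀ i, CommRing (A' i)] [∀ i, IsLocalRing (A' i)]
    [∀ i, Algebra A (A' i)]
    (hu : ∀ a : A, (∀ i, algebraMap A (A' i) a = 0) → a = 0)
    (B' : ι → Type u) [∀ i, CommRing (B' i)] [∀ i, Algebra A (B' i)] [∀ i, Algebra (A' i) (B' i)]
    [∀ i, Algebra B (B' i)] [∀ i, IsScalarTower A (A' i) (B' i)] [∀ i, IsScalarTower A B (B' i)]
    [∀ i, Algebra.IsPushout A (A' i) B (B' i)]
    (hflat : ∀ i : ι, ∃ (𝔮₀ : Ideal (B' i)) (_ : 𝔮₀.IsPrime),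
        𝔮₀.comap (algebraMap B (B' i)) = 𝔭 ∧
        𝔮₀.comap (algebraMap (A' i) (B' i)) = IsLocalRing.maximalIdeal (A' i) ∧
        Module.Flat (A' i) (LocalizedModule 𝔮₀.primeCompl (B' i ⊗[B] M)))
    (hSA : ∀ (i : ι) (𝔮₀ : Ideal (B' i)) [𝔮₀.IsPrime],
        𝔮₀.comap (algebraMap B (B' i)) = 𝔭 →
        𝔮₀.comap (algebraMap (A' i) (B' i)) = IsLocalRing.maximalIdeal (A' i) →
        ∀ z : B' i ⊗[B] M,
        LocalizedModule.mkLinearMap 𝔮₀.primeCompl (B' i ⊗[B] M) z ∈
          IsLocalRing.maximalIdeal (A' i) •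
            (⊤ : Submodule (A' i) (LocalizedModule 𝔮₀.primeCompl (B' i ⊗[B] M))) →
        ∀ (𝔮 : Ideal (B' i)) [𝔮.IsPrime], 𝔮.comap (algebraMap B (B' i)) = 𝔭 →
          𝔮.comap (algebraMap (A' i) (B' i)) = IsLocalRing.maximalIdeal (A' i) →
          LocalizedModule.mkLinearMap 𝔮.primeCompl (B' i ⊗[B] M) z ∈
            IsLocalRing.maximalIdeal (A' i) •
              (⊤ : Submodule (A' i) (LocalizedModule 𝔮.primeCompl (B' i ⊗[B] M)))) :
    Module.Flat A (LocalizedModule 𝔭.primeCompl M) := by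
  classical
  let w := Module.Free.chooseBasis (IsLocalRing.ResidueField A)
    (IsLocalRing.ResidueField A ⊗[A] LocalizedModule 𝔭.primeCompl M)
  have ⟨v, eq⟩ := (TensorProduct.mk_surjective A (LocalizedModule 𝔭.primeCompl M)
    (IsLocalRing.ResidueField A) Ideal.Quotient.mk_surjective).comp_left w
  have hv : ∀ j, (1 : IsLocalRing.ResidueField A) ⊗ₜ[A] v j = w j := fun j => congrFun eq j
  have hvind : LinearIndependent (IsLocalRing.ResidueField A)
      (fun j => (1 : IsLocalRing.ResidueField A) ⊗ₜ[A] v j) := by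
    have : (fun j => (1 : IsLocalRing.ResidueField A) ⊗ₜ[A] v j) = ⇑w := funext hv
    rw [this]
    exact w.linearIndependent
  set i := Finsupp.linearCombination A v with hi
  have hsurj : Function.Surjective i := by
    rw [← LinearMap.range_eq_top, Finsupp.range_linearCombination]
    apply Groth.Agent.Lib.Helper6.NilpNakayama.eq_top_of_sup_smul_top_of_isNilpotent _ hA
    have hker : LinearMap.ker (TensorProduct.mk A (IsLocalRing.ResidueField A)
        (LocalizedModule 𝔭.primeCompl M) 1) =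
        IsLocalRing.maximalIdeal A • (⊤ : Submodule A (LocalizedModule 𝔭.primeCompl M)) :=
      LinearMap.ker_tensorProductMk _
    rw [← hker, ← Submodule.comap_map_eq, Submodule.map_span,
      ← Submodule.restrictScalars_span A (IsLocalRing.ResidueField A)
        Ideal.Quotient.mk_surjective,
      ← Set.range_comp]
    have : (⇑(TensorProduct.mk A (IsLocalRing.ResidueField A)
        (LocalizedModule 𝔭.primeCompl M) 1) ∘ v) = ⇑w := eq
    rw [this, w.span_eq]
    simp
  have hinj : Function.Injective i := by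
    rw [injective_iff_map_eq_zero]
    intro c hc
    ext j
    rw [Finsupp.zero_apply]
    apply hu
    intro i'
    haveI : IsLocalHom (algebraMap A (A' i')) := isLocalHom_of_isNilpotent hA _
    obtain ⟨𝔮₀, h𝔮₀, h1, h2, hfl⟩ := hflat i'
    haveI := h𝔮₀
    exact algebraMap_eq_zero_of_relation_single 𝔭 𝔮₀ h1 hfl (hSA i' 𝔮₀ h1 h2) v hvind c hc j
  have hfree : Module.Free A (LocalizedModule 𝔭.primeCompl M) :=
    Module.Free.of_equiv (LinearEquiv.ofBijective i ⟨hinj, hsurj⟩)
  infer_instance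

end Groth.Agent.Lib.Helper55.FamFlat
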