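import Groth.Agent.Lib.Helper55.FamFlat.Bridge
import Groth.Agent.Lib.Helper55.FamFlat.PrimRL
import Groth.Agent.Lib.Helper88.PrimBR

set_option autoImplicit false
set_option linter.style.haveILetI false
set_option linter.unusedSectionVars false
universe u

open AlgebraicGeometry CategoryTheory Limits TopologicalSpace Opposite TensorProduct

namespace Groth.Agent.Lib.Helper55.FamFlat

open Groth.Agent.Lib.Lead.QCohAff Groth.Agent.Lib.Lead.CohAff Groth.Agent.Lib.Helper55.FL
  Groth.Agent.Lib.Lead.PullbackAff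
open Groth.Agent.Lib.Helper88.PrimBR
open scoped Pointwise

/-- The statement [SA] ("single prime => all primes", EGA IV 11.5 primary case), as a hypothesis.
It is the only missing ingredient of S4899: `Helper49.PrimSAasm.single_to_all_of_kv` reduces it to the
statement KV' (see departures/helper55.md). -/
def SAStatement : Prop :=
  ∀ {A : Type u} [CommRing A] [IsLocalRing A]
    {B : Type u} [CommRing B] [Algebra A B] [IsNoetherianRing B]
    {M : Type u} [AddCommGroup M] [Module B M] [Module A M] [IsScalarTower A B M] [Module.Finite B M]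
    (𝔭 : Ideal B) [𝔭.IsPrime]
    (_ : 𝔭.comap (algebraMap A B) = IsLocalRing.maximalIdeal A)
    (_ : ∀ a : 𝔭.ResidueField,
      IsSeparable ↥(Subfield.closure (Set.range (algebraMap A 𝔭.ResidueField))) a →
        a ∈ Subfield.closure (Set.range (algebraMap A 𝔭.ResidueField)))
    {A' : Type u} [CommRing A'] [IsLocalRing A'] [Algebra A A'] [IsLocalHom (algebraMap A A')]
    {B' : Type u} [CommRing B'] [Algebra A B'] [Algebra A' B'] [Algebra B B']
    [IsScalarTower A A' B'] [IsScalarTower A B B'] [Algebra.IsPushout A A' B B']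
    (𝔮₀ : Ideal B') [𝔮₀.IsPrime] (_ : 𝔮₀.comap (algebraMap B B') = 𝔭)
    (_ : 𝔮₀.comap (algebraMap A' B') = IsLocalRing.maximalIdeal A')
    (z : B' ⊗[B] M)
    (_ : LocalizedModule.mkLinearMap 𝔮₀.primeCompl (B' ⊗[B] M) z ∈
      IsLocalRing.maximalIdeal A' • (⊤ : Submodule A' (LocalizedModule 𝔮₀.primeCompl (B' ⊗[B] M))))
    (𝔮 : Ideal B') [𝔮.IsPrime] (_ : 𝔮.comap (algebraMap B B') = 𝔭)
    (_ : 𝔮.comap (algebraMap A' B') = IsLocalRing.maximalIdeal A'),
    LocalizedModule.mkLinearMap 𝔮.primeCompl (B' ⊗[B] M) z ∈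
      IsLocalRing.maximalIdeal A' • (⊤ : Submodule A' (LocalizedModule 𝔮.primeCompl (B' ⊗[B] M)))

open CategoryTheory.Limits in
theorem isFlatOverAt_of_family_single (HSA : SAStatement.{u}) {A : Type u} [CommRing A]
    [IsArtinianRing A] [IsLocalRing A] {X : Scheme.{u}} (f : X ⟶ Spec (CommRingCat.of A))
    [LocallyOfFiniteType f] (F : X.Modules) (hF : Coh.IsCoh F) (x : X)
    {ι : Type u} (A' : ι → Type u) [∀ i, CommRing (A' i)] [∀ i, IsLocalRing (A' i)] (u : ∀ i, A →+* A' i)
    (hu : ∀ a : A, (∀ i, u i a = 0) → a = 0)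
    (hprim : letI := (f.residueFieldMap x).hom.toAlgebra
      ∀ a : ↑(X.residueField x), IsSeparable ↑((Spec (CommRingCat.of A)).residueField (f x)) a →
        a ∈ (f.residueFieldMap x).hom.range)
    (hflat : ∀ i : ι, ∃ x' : ↥(pullback f (Spec.map (CommRingCat.ofHom (u i)))),
      pullback.fst f (Spec.map (CommRingCat.ofHom (u i))) x' = x ∧
      pullback.snd f (Spec.map (CommRingCat.ofHom (u i))) x' = IsLocalRing.closedPoint (A' i) ∧
      FlatMod.IsFlatOverAt (pullback.snd f (Spec.map (CommRingCat.ofHom (u i))))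
        ((Scheme.Modules.pullback (pullback.fst f (Spec.map (CommRingCat.ofHom (u i))))).obj F) x') :
    FlatMod.IsFlatOverAt f F x := by
  haveI : F.IsQuasicoherent := hF.1
  have hFT := hF.2
  haveI : IsLocallyNoetherian X := LocallyOfFiniteType.isLocallyNoetherian f
  obtain ⟨U, hU, hxU, -⟩ := exists_isAffineOpen_mem_and_subset (U := (⊤ : X.Opens)) (x := x) trivial
  have hV : IsAffineOpen (⊤ : (Spec (CommRingCat.of A)).Opens) := isAffineOpen_top _
  have hUV : U ≤ f ⁻¹ᵁ ⊤ := fun _ _ => trivial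
  rw [isFlatOverAt_iff_flat_localizedModule f F hU hV hUV x hxU]
  -- per-index geometric data
  let g : ∀ i, Spec (CommRingCat.of (A' i)) ⟶ Spec (CommRingCat.of A) :=
    fun i => Spec.map (CommRingCat.ofHom (u i))
  let W : ∀ i, (pullback f (g i)).Opens :=
    fun i => (pullback.fst f (g i)) ⁻¹ᵁ U ⊓ (pullback.snd f (g i)) ⁻¹ᵁ ⊤
  have hc : ∀ i, IsPullback (pullback.fst f (g i)) (pullback.snd f (g i)) f (g i) :=
    fun i => IsPullback.of_hasPullback _ _
  have hV' : ∀ i, IsAffineOpen (⊤ : (Spec (CommRingCat.of (A' i))).Opens) :=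
    fun i => isAffineOpen_top _
  have e' : ∀ i, (⊤ : (Spec (CommRingCat.of (A' i))).Opens) ≤ (g i) ⁻¹ᵁ ⊤ :=
    fun i _ _ => trivial
  have hW : ∀ i, IsAffineOpen (W i) := fun i => by
    have : IsAffine (⊤ : (Spec (CommRingCat.of A)).Opens) := hV
    have : IsAffine (⊤ : (Spec (CommRingCat.of (A' i))).Opens) := hV' i
    have : IsAffine U := hU
    exact .of_isIso (Scheme.Hom.isPullback_resLE (hc i) (e' i) hUV rfl).isoPullback.hom
  have hpush := fun i => (isIso_pushoutSection_iff (hc i) (e' i) hUV rfl).mp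
    (isIso_pushoutSection_of_isAffineOpen (hc i) (e' i) hUV rfl hV (hV' i) hU)
  -- ring-level instances
  haveI locA : IsLocalRing Γ(Spec (CommRingCat.of A), ⊤) := isLocalRing_Γtop A
  haveI locA' : ∀ i, IsLocalRing Γ(Spec (CommRingCat.of (A' i)), ⊤) :=
    fun i => isLocalRing_Γtop (A' i)
  letI algAB : Algebra Γ(Spec (CommRingCat.of A), ⊤) Γ(X, U) := (f.appLE ⊤ U hUV).hom.toAlgebra
  letI modAM : Module Γ(Spec (CommRingCat.of A), ⊤) Γ(F, U) :=
    Module.compHom Γ(F, U) (f.appLE ⊤ U hUV).hom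
  haveI towM : IsScalarTower Γ(Spec (CommRingCat.of A), ⊤) Γ(X, U) Γ(F, U) :=
    IsScalarTower.of_algebraMap_smul fun _ _ => rfl
  haveI noeB : IsNoetherianRing Γ(X, U) := IsLocallyNoetherian.component_noetherian ⟨U, hU⟩
  haveI finM : Module.Finite Γ(X, U) Γ(F, U) := finite_sections_of_isFiniteType F hFT hU
  letI algAA' : ∀ i, Algebra Γ(Spec (CommRingCat.of A), ⊤) Γ(Spec (CommRingCat.of (A' i)), ⊤) :=
    fun i => ((g i).appLE ⊤ ⊤ (e' i)).hom.toAlgebra
  letI algBB' : ∀ i, Algebra Γ(X, U) Γ(pullback f (g i), W i) :=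
    fun i => ((pullback.fst f (g i)).appLE U (W i) inf_le_left).hom.toAlgebra
  letI algA'B' : ∀ i, Algebra Γ(Spec (CommRingCat.of (A' i)), ⊤) Γ(pullback f (g i), W i) :=
    fun i => ((pullback.snd f (g i)).appLE ⊤ (W i) inf_le_right).hom.toAlgebra
  letI algAB' : ∀ i, Algebra Γ(Spec (CommRingCat.of A), ⊤) Γ(pullback f (g i), W i) :=
    fun i => ((algebraMap Γ(X, U) Γ(pullback f (g i), W i)).comp
      (algebraMap Γ(Spec (CommRingCat.of A), ⊤) Γ(X, U))).toAlgebra
  haveI t1 : ∀ i, IsScalarTower Γ(Spec (CommRingCat.of A), ⊤) Γ(X, U) Γ(pullback f (g i), W i) :=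
    fun i => IsScalarTower.of_algebraMap_eq' rfl
  haveI t2 : ∀ i, IsScalarTower Γ(Spec (CommRingCat.of A), ⊤)
      Γ(Spec (CommRingCat.of (A' i)), ⊤) Γ(pullback f (g i), W i) :=
    fun i => IsScalarTower.of_algebraMap_eq' (by
      have := congrArg CommRingCat.Hom.hom (hpush i).w
      exact this)
  haveI hP : ∀ i, Algebra.IsPushout Γ(Spec (CommRingCat.of A), ⊤)
      Γ(Spec (CommRingCat.of (A' i)), ⊤) Γ(X, U) Γ(pullback f (g i), W i) := fun i => by
    apply Algebra.IsPushout.symm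
    exact CommRingCat.isPushout_iff_isPushout.mp (hpush i)
  have hprim' := primary_bridge f x hprim hU hxU hV hUV
  have h𝔭 : (hU.primeIdealOf ⟨x, hxU⟩).asIdeal.comap
      (algebraMap Γ(Spec (CommRingCat.of A), ⊤) Γ(X, U)) =
      IsLocalRing.maximalIdeal Γ(Spec (CommRingCat.of A), ⊤) := by
    have hP : ((hU.primeIdealOf ⟨x, hxU⟩).asIdeal.comap
      (algebraMap Γ(Spec (CommRingCat.of A), ⊤) Γ(X, U))).IsPrime := Ideal.comap_isPrime _ _
    apply le_antisymm
    · exact IsLocalRing.le_maximalIdeal hP.ne_top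
    · intro a ha
      obtain ⟨n, hn⟩ := isNilpotent_maximalIdeal_Γtop A
      have h0 : a ^ n = 0 := by
        have : a ^ n ∈ IsLocalRing.maximalIdeal Γ(Spec (CommRingCat.of A), ⊤) ^ n :=
          Ideal.pow_mem_pow ha n
        rw [hn] at this
        exact this
      exact hP.mem_of_pow_mem n (h0 ▸ Ideal.zero_mem _)
  refine flat_localized_of_family_single (A := Γ(Spec (CommRingCat.of A), ⊤))
    (isNilpotent_maximalIdeal_Γtop A) (B := Γ(X, U)) (M := Γ(F, U))
    (hU.primeIdealOf ⟨x, hxU⟩).asIdeal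
    (fun i => Γ(Spec (CommRingCat.of (A' i)), ⊤)) ?_
    (fun i => Γ(pullback f (g i), W i)) ?_ ?_
  · intro a ha
    have h0 : (Scheme.ΓSpecIso (CommRingCat.of A)).hom a = 0 := by
      apply hu
      intro i
      have h1 : ((g i).appLE ⊤ ⊤ (e' i)).hom a = 0 := ha i
      have h2 : (g i).appLE ⊤ ⊤ (e' i) = (g i).appTop := Scheme.Hom.appLE_eq_app _
      rw [h2] at h1
      have h3 := congrArg (fun φ => φ.hom a)
        (Scheme.ΓSpecIso_naturality (CommRingCat.ofHom (u i)))
      simp only [CommRingCat.hom_comp, RingHom.coe_comp, Function.comp_apply,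
        CommRingCat.hom_ofHom] at h3
      rw [← h3]
      change (Scheme.ΓSpecIso (CommRingCat.of (A' i))).hom.hom (((g i).appTop).hom a) = 0
      rw [h1, map_zero]
    have h4 := congrArg (Scheme.ΓSpecIso (CommRingCat.of A)).inv.hom h0
    rw [map_zero] at h4
    rw [← h4]
    exact (congrArg (fun φ => φ.hom a) (Scheme.ΓSpecIso (CommRingCat.of A)).hom_inv_id).symm
  · intro i
    obtain ⟨x', hfst, hsnd, key⟩ := hflat i
    have hx'W : x' ∈ W i := ⟨by
      show pullback.fst f (g i) x' ∈ U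
      rw [hfst]; exact hxU, trivial⟩
    refine ⟨((hW i).primeIdealOf ⟨x', hx'W⟩).asIdeal, inferInstance, ?_, ?_, ?_⟩
    · have h1 := IsAffineOpen.comap_primeIdealOf_appLE (f := pullback.fst f (g i)) U hU
        (W i) (hW i) inf_le_left hx'W
      have h2 : hU.primeIdealOf ⟨pullback.fst f (g i) x', hx'W.1⟩ = hU.primeIdealOf ⟨x, hxU⟩ := by
        congr 1
        exact Subtype.ext hfst
      rw [← h2, ← h1]
      rfl
    · have h1 := IsAffineOpen.comap_primeIdealOf_appLE (f := pullback.snd f (g i)) ⊤ (hV' i)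
        (W i) (hW i) inf_le_right hx'W
      have h3 := (hV' i).fromSpec_primeIdealOf ⟨pullback.snd f (g i) x', trivial⟩
      rw [IsAffineOpen.fromSpec_top, Scheme.isoSpec_Spec_inv] at h3
      haveI : IsLocalHom (Scheme.ΓSpecIso (CommRingCat.of (A' i))).inv.hom :=
        isLocalHom_of_isIso _
      have h4 : Spec.map (Scheme.ΓSpecIso (CommRingCat.of (A' i))).inv
          (IsLocalRing.closedPoint Γ(Spec (CommRingCat.of (A' i)), ⊤)) =
          IsLocalRing.closedPoint (A' i) := IsLocalRing.comap_closedPoint _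
      have h5 : (hV' i).primeIdealOf ⟨pullback.snd f (g i) x', trivial⟩ =
          IsLocalRing.closedPoint Γ(Spec (CommRingCat.of (A' i)), ⊤) := by
        have hinj : Function.Injective (Spec.map (Scheme.ΓSpecIso (CommRingCat.of (A' i))).inv) :=
          (ConcreteCategory.bijective_of_isIso
            (Spec.map (Scheme.ΓSpecIso (CommRingCat.of (A' i))).inv).base).1
        apply hinj
        rw [h4]
        exact (show _ = pullback.snd f (g i) x' from h3).trans hsnd
      have h6 := congrArg PrimeSpectrum.asIdeal (h1.trans h5)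
      exact h6
    · haveI qcG : ((Scheme.Modules.pullback (pullback.fst f (g i))).obj F).IsQuasicoherent :=
        inferInstance
      rw [isFlatOverAt_iff_flat_localizedModule (pullback.snd f (g i)) _ (hW i) (hV' i)
        inf_le_right x' hx'W] at key
      letI modA'G : Module Γ(Spec (CommRingCat.of (A' i)), ⊤)
          Γ((Scheme.Modules.pullback (pullback.fst f (g i))).obj F, W i) :=
        Module.compHom _ ((pullback.snd f (g i)).appLE ⊤ (W i) inf_le_right).hom
      haveI towG : IsScalarTower Γ(Spec (CommRingCat.of (A' i)), ⊤) Γ(pullback f (g i), W i)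
          Γ((Scheme.Modules.pullback (pullback.fst f (g i))).obj F, W i) :=
        IsScalarTower.of_algebraMap_smul fun _ _ => rfl
      let e0 := sectionsPullbackEquiv (pullback.fst f (g i)) F (hW i) hU inf_le_left
      let f1 := LocalizedModule.mkLinearMap
        ((hW i).primeIdealOf ⟨x', hx'W⟩).asIdeal.primeCompl
        (Γ(pullback f (g i), W i) ⊗[Γ(X, U)] Γ(F, U))
      haveI : IsLocalizedModule ((hW i).primeIdealOf ⟨x', hx'W⟩).asIdeal.primeCompl
          (f1 ∘ₗ e0.toLinearMap) := IsLocalizedModule.of_linearEquiv_right _ _ e0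
      let e1 := IsLocalizedModule.linearEquiv ((hW i).primeIdealOf ⟨x', hx'W⟩).asIdeal.primeCompl
        (LocalizedModule.mkLinearMap ((hW i).primeIdealOf ⟨x', hx'W⟩).asIdeal.primeCompl
          Γ((Scheme.Modules.pullback (pullback.fst f (g i))).obj F, W i))
        (f1 ∘ₗ e0.toLinearMap)
      exact Module.Flat.of_linearEquiv (e1.symm.restrictScalars Γ(Spec (CommRingCat.of (A' i)), ⊤))
  · intro i 𝔮₀ h𝔮₀ h1 h2 z hz 𝔮 h𝔮 h1' h2'
    haveI : IsLocalHom (algebraMap Γ(Spec (CommRingCat.of A), ⊤)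
        Γ(Spec (CommRingCat.of (A' i)), ⊤)) :=
      isLocalHom_of_isNilpotent (isNilpotent_maximalIdeal_Γtop A) _
    exact HSA (A := Γ(Spec (CommRingCat.of A), ⊤)) (B := Γ(X, U)) (M := Γ(F, U))
      (hU.primeIdealOf ⟨x, hxU⟩).asIdeal h𝔭 hprim' 𝔮₀ h1 h2 z hz 𝔮 h1' h2'

end Groth.Agent.Lib.Helper55.FamFlat
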